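import Mathlib
import Cfsg.Agent.Lib.ExcP.Inst
import Cfsg.Agent.Lib.Blocks.NormSum
import Cfsg.Agent.Lib.Char.DefectZero

/-!
# Local analysis for a Sylow subgroup of prime order

`P` is a subgroup of order `p`, `p ^ 2` does not divide `|G|`.  For `j` in the principal block and
`κ` a linear character of `C = C_G(P)` with `κ ^ p = 1`, `⟨Ind(κ - 1), j⟩ = ⟨κ - 1, j⟩_P`; for `j` not in
the principal block, the inner product vanishes.  The degree of a member of the principal block is
prime to `p`.
-/

set_option autoImplicit false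
set_option linter.style.haveILetI false
set_option linter.unusedSectionVars false

namespace Cfsg.Agent.Lib.ModRep.Prime

open Cfsg MonoidAlgebra
open Cfsg.Agent.Lib.Blocks.Local Cfsg.Agent.Lib.Blocks.Central
open Cfsg.Agent.Lib.Blocks.Weak Cfsg.Agent.Lib.Blocks.Brauer Cfsg.Agent.Lib.Blocks.Induced
open Cfsg.Agent.Lib.Blocks.PPart Cfsg.Agent.Lib.Blocks.Main Cfsg.Agent.Lib.Blocks.Third
open Cfsg.Agent.Lib.Blocks.General Cfsg.Agent.Lib.Blocks.Defect Cfsg.Agent.Lib.Blocks.Defect2
open Cfsg.Agent.Lib.Blocks.Sections Cfsg.Agent.Lib.Blocks.Heights Cfsg.Agent.Lib.Blocks.Inducing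
open Cfsg.Agent.Lib.ExcP.Gram Cfsg.Agent.Lib.ExcP.Inst Cfsg.Agent.Lib.BlockP.Stable
open scoped ComplexConjugate

universe u

section Idem

variable {G : Type u} [Group G] [Fintype G] [Fintype (IrrCharacter G)] {M : Ideal AlgInt} {p : ℕ}
  [hMp : M.IsPrime] [Fact p.Prime]

open scoped Classical in
/-- The block idempotent of the principal block of a `p`-nilpotent group. -/
theorem blockCoeff_principal (hM : IsPModular p M) {N : Subgroup G} (hN : N.Normal)
    (hcard : ¬ p ∣ Nat.card N) (hind : ∃ k : ℕ, N.index = p ^ k) (g : G) :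
    blockCoeff (principalBlock M G) g = if g ∈ N then (Nat.card N : ℂ)⁻¹ else 0 := by
  classical
  have hp := prime_of_pModular hM
  set E := idem (principalBlock M G) with hE
  set z := avgNormal N hN with hz
  have hcardC : (Nat.card N : ℂ) ≠ 0 := Nat.cast_ne_zero.mpr Nat.card_pos.ne'
  have hωz : ∀ χ ∈ principalBlock M G, omegaHom χ z = 1 := by
    intro χ hχ
    have hne : (χ : G → ℂ) 1 ≠ 0 := Cfsg.Agent.Lib.Char.Complete.irr_one_ne_zero χ.2
    rw [omegaHom_apply, lin_apply, hz]
    simp only [coeff_avgNormal]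
    letI : Fintype N := Fintype.ofFinite N
    rw [sum_eq_sum_subgroup N _ (fun g hg => by rw [if_neg hg, zero_mul])]
    rw [Finset.sum_congr rfl (fun h _ => by
      rw [if_pos h.2, eq_one_of_mem_principal hM hN hcard hχ h.2]),
      Finset.sum_const, Finset.card_univ, nsmul_eq_mul, ← Nat.card_eq_fintype_card]
    field_simp
  have hEz : E * z = E := by
    apply omegaHom_injective
    intro χ
    rw [map_mul, hE, omegaHom_idem]
    split_ifs with hχ
    · rw [hωz χ hχ, one_mul]
    · rw [zero_mul]
  have hzn : ∀ n ∈ N, (z : GA G) * single n (1 : ℂ) = z := by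
    intro n hn
    rw [← (isCentral_iff_comm (z : GA G)).mp (isCentral_of_mem z)]
    ext g
    rw [Cfsg.Agent.Lib.Blocks.General.coeff_single_one_mul, hz, coeff_avgNormal, coeff_avgNormal]
    have : n⁻¹ * g ∈ N ↔ g ∈ N := by
      constructor
      · intro h
        have := N.mul_mem hn h
        simpa using this
      · intro h
        exact N.mul_mem (N.inv_mem hn) h
    simp only [this]
  have hEn : ∀ n ∈ N, (E : GA G) * single n (1 : ℂ) = E := by
    intro n hn
    have e1 : (E : GA G) = (E : GA G) * (z : GA G) := (congrArg Subtype.val hEz).symm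
    rw [e1, mul_assoc, hzn n hn]
  have hconst : ∀ n ∈ N, (E : GA G).coeff n = (E : GA G).coeff 1 := by
    intro n hn
    have h1 : ((E : GA G) * single n (1 : ℂ)).coeff n = (E : GA G).coeff n := by
      rw [hEn n hn]
    rw [← h1, MonoidAlgebra.coeff_mul_single_apply]
    simp
  have hreg : ∀ g : G, g ∉ N → (E : GA G).coeff g = 0 := by
    intro g hg
    rw [hE, coeff_idem]
    apply blockCoeff_eq_zero hM (isPBlock_principal M)
    by_contra hdvd
    apply hg
    obtain ⟨k, hk⟩ := hind
    have h1 : g ^ N.index ∈ N := Subgroup.pow_index_mem N g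
    rw [hk] at h1
    have hcop : (p ^ k).Coprime (orderOf g) :=
      Nat.Coprime.pow_left _ ((Nat.Prime.coprime_iff_not_dvd hp).mpr hdvd)
    obtain ⟨m, hm⟩ := exists_pow_eq_self_of_coprime hcop
    rw [← hm]
    exact N.pow_mem h1 m
  have hone : omegaHom (oneI G) E = 1 := by
    rw [hE, omegaHom_idem, if_pos]
    rw [principalBlock_eq_blockOf]
    exact mem_blockOf_self (oneI G)
  have hsum : (Nat.card N : ℂ) * (E : GA G).coeff 1 = 1 := by
    rw [omegaHom_apply, lin_apply] at hone
    simp only [oneI_apply, mul_one, div_one] at hone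
    letI : Fintype N := Fintype.ofFinite N
    rw [sum_eq_sum_subgroup N _ (fun g hg => hreg g hg)] at hone
    rw [Finset.sum_congr rfl (fun (h : N) _ => hconst h h.2), Finset.sum_const, Finset.card_univ,
      nsmul_eq_mul, ← Nat.card_eq_fintype_card] at hone
    exact hone
  have h1 : (E : GA G).coeff 1 = (Nat.card N : ℂ)⁻¹ := by
    field_simp
    rw [mul_comm]
    exact hsum
  change (E : GA G).coeff g = _
  split_ifs with hg
  · rw [hconst g hg, h1]
  · exact hreg g hg

end Idem

section Van

variable {G : Type u} [Group G] [Fintype G] [Fintype (IrrCharacter G)] {M : Ideal AlgInt} {p : ℕ}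
  [hMp : M.IsPrime] [hp : Fact p.Prime]

/-- Characters outside the principal block have vanishing averages. -/
theorem sum_eq_zero_of_notMem (hM : IsPModular p M) {u : G} (hu : ∃ k : ℕ, orderOf u = p ^ k)
    {C : Subgroup G} (hC : C = Subgroup.centralizer ({u} : Set G)) [Fintype C]
    [Fintype (IrrCharacter C)] {K : Subgroup C} (hK : K.Normal) (hcard : ¬ p ∣ Nat.card K)
    (hind : ∃ k : ℕ, K.index = p ^ k) [Fintype K]
    {χ : IrrCharacter G} (hχ : χ ∉ principalBlock M G) :
    ∑ v : K, (χ : G → ℂ) (((v : C) : G) * u) = 0 := by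
  classical
  set A := principalBlock M C with hA
  set F : Set (IrrCharacter G) := (principalBlock M G)ᶜ with hF
  have hAl : idem A ∈ localCenter M C := idem_mem_localCenter (isPBlock_principal M)
  have hFl : idem F ∈ localCenter M G :=
    idem_compl_mem_localCenter (idem_mem_localCenter (isPBlock_principal M))
  have hAF : ∀ ξ ∈ A, MemLocalIdeal M (indHom C ξ (idem F)) := by
    intro ξ hξ
    have hP : IsBrauerPair p (Subgroup.zpowers u) C := hC ▸ isBrauerPair_zpowers hu
    have hdef := exists_induced hM hP (b := blockOf M (ξ : C → ℂ)) ⟨ξ, rfl⟩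
    have h1 : principalBlock M C = blockOf M (ξ : C → ℂ) :=
      isPBlock_eq_blockOf (isPBlock_principal M) hξ
    have hind' : IsInducedBlock M C (blockOf M (ξ : C → ℂ)) (principalBlock M G) :=
      (third_main hM C hdef).mpr h1.symm
    have hone : oneI G ∈ principalBlock M G := by
      rw [principalBlock_eq_blockOf]
      exact mem_blockOf_self (oneI G)
    have h2 := IsInducedBlock.sub_mem C hind' (mem_blockOf_self ξ) hone hFl
    rwa [omegaHom_idem, if_neg (fun h => h hone), sub_zero] at h2
  have huC : u ∈ C := by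
    rw [hC, Subgroup.mem_centralizer_singleton_iff]
  have hpart : IsPPart p (((⟨u, huC⟩ : C) : C) : G) u := by
    refine ⟨1, by simp, by simp, hu, ?_⟩
    rw [orderOf_one]
    intro h
    exact hp.out.one_lt.ne' (Nat.dvd_one.mp h)
  have key := sum_idem_mul_eq_zero_general C hM hAl hFl hAF ⟨u, huC⟩ hpart hC.symm.le χ hχ
  rw [sum_eq_sum_subgroup K _ (fun g hg => by
    rw [hA, blockCoeff_principal hM hK hcard hind, if_neg hg, zero_mul])] at key
  rw [Finset.sum_congr rfl (fun (h : K) _ => by
    rw [hA, blockCoeff_principal hM hK hcard hind, if_pos h.2]), ← Finset.mul_sum] at key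
  have hcardC : (Nat.card K : ℂ) ≠ 0 := Nat.cast_ne_zero.mpr Nat.card_pos.ne'
  exact (mul_eq_zero.mp key).resolve_left (inv_ne_zero hcardC)

/-- Members of the principal block are constant on cosets of the complement. -/
theorem value_eq_of_mem (hM : IsPModular p M) {u : G} (hu : ∃ k : ℕ, orderOf u = p ^ k)
    {C : Subgroup G} (hC : C = Subgroup.centralizer ({u} : Set G))
    {K : Subgroup C} (hK : K.Normal) (hcard : ¬ p ∣ Nat.card K)
    {χ : IrrCharacter G} (hχ : χ ∈ principalBlock M G) {v : C} (hv : v ∈ K) :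
    (χ : G → ℂ) (u * (v : G)) = (χ : G → ℂ) u := by
  subst hC
  have hcop : (Nat.card K).Coprime p :=
    ((Nat.Prime.coprime_iff_not_dvd hp.out).mpr hcard).symm
  exact zstar hM hu (Cfsg.Agent.Lib.Core.Basic.le_pPrimeCore hK hcop hv) hχ

end Van

section Struct

variable {G : Type u} [Group G] [Finite G] {p : ℕ} [hp : Fact p.Prime] {P : Subgroup G}

/-- The centralizer of `P` is the direct product of `P` and a normal complement. -/
theorem exists_complement (hP : Nat.card P = p) (hp2 : ¬ p ^ 2 ∣ Nat.card G) :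
    ∃ K : Subgroup (Cn P), K.Normal ∧ ¬ p ∣ Nat.card K ∧ K.index = p := by
  classical
  have hle : P ≤ Cn P := le_centralizer hP
  set S₀ : Subgroup (Cn P) := P.subgroupOf (Cn P) with hS₀
  have hS₀card : Nat.card S₀ = p := by
    have h1 : Nat.card S₀ = Nat.card P := by
      rw [hS₀]
      exact Nat.card_congr (Subgroup.subgroupOfEquivOfLe hle).toEquiv
    rw [h1, hP]
  have hpC : ¬ p ^ 2 ∣ Nat.card (Cn P) := fun h => hp2 (h.trans (Subgroup.card_subgroup_dvd_card _))
  have hfac : (Nat.card (Cn P)).factorization p = 1 := by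
    have h1 : p ∣ Nat.card (Cn P) := by
      rw [← hS₀card]
      exact Subgroup.card_subgroup_dvd_card _
    have h2 : 1 ≤ (Nat.card (Cn P)).factorization p :=
      (hp.out.dvd_iff_one_le_factorization Nat.card_pos.ne').mp h1
    have h3 : ¬ 2 ≤ (Nat.card (Cn P)).factorization p := by
      intro h
      exact hpC ((hp.out.pow_dvd_iff_le_factorization Nat.card_pos.ne').mpr h)
    omega
  let S : Sylow p (Cn P) := Sylow.ofCard S₀ (by rw [hfac, pow_one, hS₀card])
  have hScoe : (S : Subgroup (Cn P)) = S₀ := rfl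
  have hcent : ∀ s ∈ (S : Subgroup (Cn P)), ∀ c : Cn P, c * s = s * c := by
    intro s hs c
    apply Subtype.ext
    have h1 : (s : G) ∈ P := hs
    exact (Subgroup.mem_centralizer_iff.mp c.2 _ h1).symm
  have hnorm : Subgroup.normalizer ((S : Subgroup (Cn P)) : Set (Cn P)) ≤
      Subgroup.centralizer ((S : Subgroup (Cn P)) : Set (Cn P)) := by
    intro c _
    rw [Subgroup.mem_centralizer_iff]
    intro s hs
    exact (hcent s hs c).symm
  have hcomp := MonoidHom.ker_transferSylow_isComplement' S hnorm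
  have hnd := MonoidHom.not_dvd_card_ker_transferSylow S hnorm
  refine ⟨(MonoidHom.transferSylow S hnorm).ker, inferInstance, hnd, ?_⟩
  have h2 : (MonoidHom.transferSylow S hnorm).ker.index = Nat.card S := hcomp.symm.index_eq_card
  rw [h2]
  exact hS₀card

/-- The map `P × K → C` is a bijection. -/
theorem mul_bijective (hP : Nat.card P = p) {K : Subgroup (Cn P)}
    (hcard : ¬ p ∣ Nat.card K) (hidx : K.index = p) :
    Function.Bijective (fun x : P × K => (⟨x.1, le_centralizer hP x.1.2⟩ : Cn P) * (x.2 : Cn P)) := by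
  classical
  letI : Fintype P := Fintype.ofFinite _
  letI : Fintype (Cn P) := Fintype.ofFinite _
  letI : Fintype K := Fintype.ofFinite _
  rw [Fintype.bijective_iff_injective_and_card]
  constructor
  · rintro ⟨a, v⟩ ⟨b, w⟩ h
    have h1 : (⟨a, le_centralizer hP a.2⟩ : Cn P) * (v : Cn P) =
        (⟨b, le_centralizer hP b.2⟩ : Cn P) * (w : Cn P) := h
    have h2 : (⟨b, le_centralizer hP b.2⟩ : Cn P)⁻¹ * (⟨a, le_centralizer hP a.2⟩ : Cn P) =
        (w : Cn P) * (v : Cn P)⁻¹ := by
      rw [eq_mul_inv_iff_mul_eq, mul_assoc, h1, inv_mul_cancel_left]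
    have hw : (w : Cn P) * (v : Cn P)⁻¹ ∈ K := K.mul_mem w.2 (K.inv_mem v.2)
    -- the intersection is trivial
    set t : Cn P := (w : Cn P) * (v : Cn P)⁻¹ with ht
    have htP : (t : G) ∈ P := by
      rw [← h2]
      exact P.mul_mem (P.inv_mem b.2) a.2
    have ht1 : t = 1 := by
      have h3 : orderOf (⟨t, hw⟩ : K) ∣ Nat.card K := orderOf_dvd_natCard _
      have h4 : orderOf (⟨(t : G), htP⟩ : P) ∣ Nat.card P := orderOf_dvd_natCard _
      rw [Subgroup.orderOf_mk] at h3 h4
      rw [Subgroup.orderOf_coe, hP] at h4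
      have h5 : Nat.Coprime (Nat.card K) p := ((Nat.Prime.coprime_iff_not_dvd hp.out).mpr hcard).symm
      have h6 := Nat.eq_one_of_dvd_coprimes h5 h3 h4
      exact orderOf_eq_one_iff.mp h6
    have h7 : (w : Cn P) = (v : Cn P) := by
      rw [ht] at ht1
      exact mul_inv_eq_one.mp ht1
    have h9 : (⟨a, le_centralizer hP a.2⟩ : Cn P) = (⟨b, le_centralizer hP b.2⟩ : Cn P) := by
      rw [h7] at h1
      exact mul_right_cancel h1
    have h10 : a = b := Subtype.ext (congrArg (fun c : Cn P => (c : G)) h9)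
    have h11 : v = w := Subtype.ext h7.symm
    rw [h10, h11]
  · rw [Fintype.card_prod, ← Nat.card_eq_fintype_card, ← Nat.card_eq_fintype_card,
      ← Nat.card_eq_fintype_card, hP, ← hidx, mul_comm, Subgroup.card_mul_index]

end Struct

section Main

variable {G : Type u} [Group G] [Fintype G] {p : ℕ} [hp : Fact p.Prime] {P : Subgroup G}
  [Fintype (Cn P)] [Fintype P] [Fintype (IrrCharacter G)] {M : Ideal AlgInt}

/-- The centralizer of a non-identity element of `P`. -/
theorem centralizer_eq (hP : Nat.card P = p) {u : G} (hu : u ∈ P) (hu1 : u ≠ 1) :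
    Cn P = Subgroup.centralizer ({u} : Set G) := by
  have h1 := eq_zpowers_of_mem hP hu hu1
  rw [Cn]
  ext c
  rw [Subgroup.mem_centralizer_singleton_iff, Subgroup.mem_centralizer_iff]
  constructor
  · intro h
    exact (h u hu).symm
  · intro h v hv
    rw [h1] at hv
    obtain ⟨n, rfl⟩ := Subgroup.mem_zpowers_iff.mp hv
    exact (Commute.zpow_left (show Commute u c from h.symm) n).eq

/-- The inner product with an irreducible character, in terms of the decomposition. -/
theorem classInner_Th_eq (hP : Nat.card P = p) {K : Subgroup (Cn P)} [Fintype K]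
    (hcard : ¬ p ∣ Nat.card K) (hidx : K.index = p) {κ : Cn P →* ℂˣ} (hκ : ∀ x, κ x ^ p = 1)
    (j : IrrCharacter G) :
    classInner (Th P κ) (j : G → ℂ) = (Nat.card (Cn P) : ℂ)⁻¹ *
      ∑ u : P, (((κ ⟨u, le_centralizer hP u.2⟩ : ℂˣ) : ℂ) - 1) *
        ∑ v : K, conj ((j : G → ℂ) ((u : G) * ((v : Cn P) : G))) := by
  classical
  rw [Th, Cfsg.Agent.Lib.Char.Induced.classInner_indFun_left _ _ _
    (Cfsg.Agent.Lib.Char.Basic.isClassFunction_of_isIrrCharacter j.2),
    Cfsg.Agent.Lib.Char.Induced.classInner_subgroup_eq]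
  congr 1
  rw [← (mul_bijective hP hcard hidx).sum_comp, Fintype.sum_prod_type]
  refine Finset.sum_congr rfl fun u _ => ?_
  rw [Finset.mul_sum]
  refine Finset.sum_congr rfl fun v _ => ?_
  have hκv : κ (v : Cn P) = 1 := by
    apply apply_eq_one_of_not_dvd hκ
    intro hd
    apply hcard
    have h1 : orderOf (v : G) = orderOf v := by
      rw [← Subgroup.orderOf_coe v, ← Subgroup.orderOf_coe (v : Cn P)]
    rw [h1] at hd
    exact hd.trans (orderOf_dvd_natCard v)
  show (fl P κ) _ * _ = _
  rw [fl, map_mul, hκv, mul_one]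
  rfl

/-- The alternative for the inner products. -/
theorem inner_alternative (hP : Nat.card P = p) (hp2 : ¬ p ^ 2 ∣ Nat.card G) (hM : IsPModular p M)
    {κ : Cn P →* ℂˣ} (hκ : ∀ x, κ x ^ p = 1) (j : IrrCharacter G) :
    (j ∈ principalBlock M G → classInner (Th P κ) (j : G → ℂ) = Ak hP κ (j : G → ℂ)) ∧
    (j ∉ principalBlock M G → classInner (Th P κ) (j : G → ℂ) = 0) := by
  classical
  haveI := isPrime_of_pModular hM
  haveI := Cfsg.Agent.Lib.Char.Ortho.finite_irrCharacter (G := Cn P)
  letI := Fintype.ofFinite (IrrCharacter (Cn P))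
  obtain ⟨K, hK, hcard, hidx⟩ := exists_complement (P := P) hP hp2
  letI : Fintype K := Fintype.ofFinite _
  have hpow : ∀ u : P, ∃ k : ℕ, orderOf (u : G) = p ^ k := by
    intro u
    have h1 : orderOf u ∣ Nat.card P := orderOf_dvd_natCard u
    rw [hP] at h1
    rcases (Nat.dvd_prime hp.out).mp h1 with h2 | h2
    · exact ⟨0, by rw [Subgroup.orderOf_coe u, h2, pow_zero]⟩
    · exact ⟨1, by rw [Subgroup.orderOf_coe u, h2, pow_one]⟩
  have hKcard : (Nat.card K : ℂ) ≠ 0 := Nat.cast_ne_zero.mpr Nat.card_pos.ne'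
  have hCcard : (Nat.card (Cn P) : ℂ) = (Nat.card K : ℂ) * (p : ℂ) := by
    rw [← Nat.cast_mul, ← hidx, Subgroup.card_mul_index]
  have hp0 : (p : ℂ) ≠ 0 := by
    exact_mod_cast hp.out.ne_zero
  constructor
  · intro hj
    rw [classInner_Th_eq hP hcard hidx hκ, Ak, hCcard]
    have h1 : ∀ u : P, (((κ ⟨u, le_centralizer hP u.2⟩ : ℂˣ) : ℂ) - 1) *
        ∑ v : K, conj ((j : G → ℂ) ((u : G) * ((v : Cn P) : G))) =
        (Nat.card K : ℂ) * ((((κ ⟨u, le_centralizer hP u.2⟩ : ℂˣ) : ℂ) - 1) * conj ((j : G → ℂ) u)) := by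
      intro u
      by_cases hu1 : u = 1
      · subst hu1
        have : (κ ⟨((1 : P) : G), le_centralizer hP (1 : P).2⟩ : ℂˣ) = 1 := by
          have h0 : (⟨((1 : P) : G), le_centralizer hP (1 : P).2⟩ : Cn P) = 1 := rfl
          rw [h0, map_one]
        rw [this]
        simp
      · have hu1' : (u : G) ≠ 1 := fun h => hu1 (Subtype.ext h)
        have hC := centralizer_eq hP u.2 hu1'
        have h2 : ∀ v : K, conj ((j : G → ℂ) ((u : G) * ((v : Cn P) : G))) = conj ((j : G → ℂ) u) := by
          intro v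
          rw [value_eq_of_mem hM (hpow u) hC hK hcard hj v.2]
        rw [Finset.sum_congr rfl (fun v _ => h2 v), Finset.sum_const, Finset.card_univ, nsmul_eq_mul,
          ← Nat.card_eq_fintype_card]
        ring
    rw [Finset.sum_congr rfl (fun u _ => h1 u), ← Finset.mul_sum]
    field_simp
  · intro hj
    rw [classInner_Th_eq hP hcard hidx hκ]
    apply mul_eq_zero_of_right
    refine Finset.sum_eq_zero fun u _ => ?_
    by_cases hu1 : u = 1
    · subst hu1
      have : (κ ⟨((1 : P) : G), le_centralizer hP (1 : P).2⟩ : ℂˣ) = 1 := by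
        have h0 : (⟨((1 : P) : G), le_centralizer hP (1 : P).2⟩ : Cn P) = 1 := rfl
        rw [h0, map_one]
      rw [this]
      simp
    · have hu1' : (u : G) ≠ 1 := fun h => hu1 (Subtype.ext h)
      have hC := centralizer_eq hP u.2 hu1'
      have h2 := sum_eq_zero_of_notMem hM (hpow u) hC hK hcard ⟨1, by rw [hidx, pow_one]⟩ hj
      have h3 : ∑ v : K, conj ((j : G → ℂ) ((u : G) * ((v : Cn P) : G))) = 0 := by
        have h4 : ∀ v : K, (u : G) * ((v : Cn P) : G) = ((v : Cn P) : G) * (u : G) := by
          intro v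
          exact ((Subgroup.mem_centralizer_iff.mp (v : Cn P).2) _ u.2)
        simp_rw [h4]
        rw [← map_sum, h2, map_zero]
      rw [h3, mul_zero]

end Main

section Degree

variable {G : Type u} [Group G] [Fintype G] {p : ℕ} [hp : Fact p.Prime] {M : Ideal AlgInt}

/-- Members of the principal block have degree prime to `p` when `p ^ 2 ∤ |G|`. -/
theorem not_dvd_degree (hM : IsPModular p M) [Fintype (IrrCharacter G)] (hp2 : ¬ p ^ 2 ∣ Nat.card G)
    {x : G} (hx : orderOf x = p) {j : IrrCharacter G} (hj : j ∈ principalBlock M G) :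
    ¬ p ∣ charDegree (j : G → ℂ) := by
  classical
  intro hd
  haveI := isPrime_of_pModular hM
  have hzero : (j : G → ℂ) x = 0 := by
    have hdvd : p ∣ Nat.card G := by
      rw [← hx]
      exact orderOf_dvd_natCard x
    obtain ⟨χ', hirr⟩ := j
    obtain ⟨n, ρ, hρ, rfl⟩ := id hirr
    haveI : ρ.IsIrreducible := hρ
    refine Cfsg.Agent.Lib.Char.DefectZero.character_eq_zero_of_defect_zero ρ p 1 hp.out
      (by rw [pow_one]; exact hdvd) ?_ ?_ x (by rw [hx])
    · rw [show 1 + 1 = 2 from rfl]
      exact hp2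
    · rw [pow_one]
      have := hd
      rwa [Cfsg.Agent.Lib.Char.Degree.charDegree_character] at this
  -- central characters agree modulo `M`
  have h1 : j ∈ blockOf M ((oneI G : IrrCharacter G) : G → ℂ) := hj
  have h2 := h1 x
  have h3 : centralChar (j : G → ℂ) x = 0 := by
    unfold centralChar
    rw [hzero]
    simp
  have h4 : centralChar ((oneI G : IrrCharacter G) : G → ℂ) x =
      ((Subgroup.centralizer ({x} : Set G)).index : ℂ) := by
    unfold centralChar
    simp
  rw [h3, h4, sub_zero] at h2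
  have h6 := (natCast_memLocalIdeal_iff hM _).mp h2
  -- the index is prime to `p`
  have hcop : ¬ p ∣ (Subgroup.centralizer ({x} : Set G)).index := by
    intro hdv
    apply hp2
    have h7 : p ∣ Nat.card (Subgroup.centralizer ({x} : Set G)) := by
      rw [← hx]
      have h8 := orderOf_dvd_natCard (⟨x, Subgroup.mem_centralizer_singleton_iff.mpr rfl⟩ :
        Subgroup.centralizer ({x} : Set G))
      rwa [Subgroup.orderOf_mk] at h8
    rw [← Subgroup.card_mul_index (Subgroup.centralizer ({x} : Set G)), sq]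
    exact mul_dvd_mul h7 hdv
  exact hcop h6

end Degree

end Cfsg.Agent.Lib.ModRep.Prime
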