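import Cfsg.Agent.Lib.ModRep.Count
import Cfsg.Agent.Lib.ModRep.Prime
import Cfsg.Agent.Lib.ModRep.Numerics

/-!
# The principal block when the Sylow subgroup has prime order
-/

set_option autoImplicit false
set_option linter.style.haveILetI false

namespace Cfsg.Agent.Lib.ModRep.Princ

open Cfsg
open Cfsg.Agent.Lib.ExcP.Gram Cfsg.Agent.Lib.ExcP.Inst

universe u

variable {G : Type u} [Group G] [Fintype G] {p : ℕ} [hp : Fact p.Prime] {P : Subgroup G}

/-- `Θ κ` vanishes on `p`-regular elements. -/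
theorem Th_regular [Fintype (Cn P)] {κ : Cn P →* ℂˣ} (hκ : ∀ x, κ x ^ p = 1) {y : G}
    (hy : ¬ p ∣ orderOf y) : Th P κ y = 0 := by
  classical
  rw [Th]
  show (Nat.card (Cn P) : ℂ)⁻¹ * _ = 0
  apply mul_eq_zero_of_right
  refine Finset.sum_eq_zero fun x _ => ?_
  by_cases hx : x⁻¹ * y * x ∈ Cn P
  · rw [Cfsg.Agent.Lib.Char.Induced.extendByZero_of_mem _ _ hx]
    have h1 : κ ⟨x⁻¹ * y * x, hx⟩ = 1 := by
      apply apply_eq_one_of_not_dvd hκ
      have h2 : orderOf (x⁻¹ * y * x) = orderOf y := by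
        have h3 : x⁻¹ * y * x = MulAut.conj x⁻¹ y := by
          simp [MulAut.conj_apply]
        rw [h3, MulEquiv.orderOf_eq]
      show ¬ p ∣ orderOf (x⁻¹ * y * x)
      rw [h2]
      exact hy
    rw [fl, h1]
    simp
  · exact Cfsg.Agent.Lib.Char.Induced.extendByZero_of_not_mem _ _ hx

variable {M : Ideal AlgInt}

/-- The main theorem on the principal block, `P` of order `p`, `p ^ 2 ∤ |G|`. -/
theorem main (hM : IsPModular p M) (hP : Nat.card P = p) (hp2 : ¬ p ^ 2 ∣ Nat.card G) (e : ℕ)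
    (he : (Subgroup.centralizer (P : Set G)).relIndex (Subgroup.normalizer (P : Set G)) = e) :
    Nat.card (principalBlock M G) = e + (p - 1) / e ∧
      ∀ χ ∈ principalBlock M G, ((charDegree (χ : G → ℂ) : ℤ) ≡ 1 [ZMOD p] ∨
        (charDegree (χ : G → ℂ) : ℤ) ≡ -1 [ZMOD p] ∨ (charDegree (χ : G → ℂ) : ℤ) ≡ (e : ℤ) [ZMOD p] ∨
        (charDegree (χ : G → ℂ) : ℤ) ≡ -(e : ℤ) [ZMOD p]) := by
  classical
  haveI := Cfsg.Agent.Lib.Blocks.Local.isPrime_of_pModular hM
  haveI := Cfsg.Agent.Lib.Char.Ortho.finite_irrCharacter (G := G)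
  letI := Fintype.ofFinite (IrrCharacter G)
  letI : Fintype P := Fintype.ofFinite _
  letI : Fintype (Cn P) := Fintype.ofFinite _
  letI : Fintype (Nn P) := Fintype.ofFinite _
  haveI := finite_DD (p := p) (P := P) hP hp2
  letI : Fintype (DD P p) := Fintype.ofFinite _
  have hN : Nat.card (Nn P) = e * Nat.card (Cn P) := by
    have hle : Cn P ≤ Nn P := Subgroup.centralizer_le_normalizer _
    have h1 := Subgroup.card_mul_index ((Cn P).subgroupOf (Nn P))
    have h2 : Nat.card ((Cn P).subgroupOf (Nn P)) = Nat.card (Cn P) :=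
      Nat.card_congr (Subgroup.subgroupOfEquivOfLe hle).toEquiv
    rw [h2] at h1
    rw [← h1, ← he, mul_comm]
    rfl
  -- a generator
  obtain ⟨x, hxP, hx1⟩ : ∃ x ∈ P, x ≠ 1 := by
    have h1 : P ≠ ⊥ := by
      rintro rfl
      rw [Subgroup.card_bot] at hP
      exact hp.out.one_lt.ne hP
    obtain ⟨x, hx⟩ := Subgroup.ne_bot_iff_exists_ne_one.mp h1
    exact ⟨x.1, x.2, fun h => hx (Subtype.ext h)⟩
  have hPx : P = Subgroup.zpowers x := eq_zpowers_of_mem hP hxP hx1
  have hx : orderOf x = p := by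
    rw [← Nat.card_zpowers, ← hPx, hP]
  have he' : (Subgroup.centralizer ((Subgroup.zpowers x : Subgroup G) : Set G)).relIndex
      (Subgroup.normalizer ((Subgroup.zpowers x : Subgroup G) : Set G)) = e := by
    rw [← hPx]
    exact he
  refine Numerics.numerics (rr P p) (fun d => Th P d.1) e p hp.out.two_le (fun d => isGen_Th _)
    (fun d => Th_one _) (gram_same hP hp2 hN) (gram_diff hP hp2 hN)
    (fun a => classInner_Th_one a.2.2) (card_class hP hp2 hN) ?_ (principalBlock M G)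
    (fun g => ¬ p ∣ orderOf g) ?_ ?_ ?_ ?_ ?_
  · rw [← Nat.card_eq_fintype_card, card_DD hP hp2]
  · intro j hj d
    exact (Prime.inner_alternative hP hp2 hM d.2.1 j).2 hj
  · intro j hj
    by_contra hall
    push Not at hall
    obtain ⟨a, ha⟩ := sum_Ak hP hp2 j
    have h1 : ∑ d : DD P p, Ak hP d.1 (j : G → ℂ) = 0 := by
      refine Finset.sum_eq_zero fun d _ => ?_
      rw [← (Prime.inner_alternative hP hp2 hM d.2.1 j).1 hj]
      exact hall d
    rw [h1] at ha
    have h2 : (charDegree (j : G → ℂ) : ℤ) = (p : ℤ) * a := by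
      have h3 : (charDegree (j : G → ℂ) : ℂ) = (p : ℂ) * (a : ℂ) := by
        linear_combination -ha
      exact_mod_cast h3
    apply Prime.not_dvd_degree hM hp2 hx hj
    have h4 : (p : ℤ) ∣ (charDegree (j : G → ℂ) : ℤ) := ⟨a, h2⟩
    exact_mod_cast h4
  · intro j hj
    obtain ⟨a, ha⟩ := sum_Ak hP hp2 j
    refine ⟨a, ?_⟩
    rw [← ha]
    exact Finset.sum_congr rfl fun d _ => (Prime.inner_alternative hP hp2 hM d.2.1 j).1 hj
  · intro d y hy
    exact Th_regular d.2.1 hy
  · intro S hS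
    exact Count.card_le hM hx hp2 e he' S hS

end Cfsg.Agent.Lib.ModRep.Princ
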