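import Mathlib

/-!
# Traces of pairwise non-isomorphic simple modules

Using the Jacobson density theorem: given pairwise non-isomorphic finite dimensional simple modules
over an algebra over an algebraically closed field, there is an element of the algebra
with trace `1` on one of them and acting as zero on the others.
-/

set_option autoImplicit false
set_option linter.style.haveILetI false

namespace Cfsg.Agent.Lib.ModRep.Density

open Module

universe u v w

variable {k : Type u} [Field k] [IsAlgClosed k] {R : Type v} [Ring R] [Algebra k R]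
  {ι : Type*} [Fintype ι] [DecidableEq ι] {M : ι → Type w}
  [∀ i, AddCommGroup (M i)] [∀ i, Module R (M i)] [∀ i, Module k (M i)]
  [∀ i, IsScalarTower k R (M i)] [∀ i, IsSimpleModule R (M i)] [∀ i, FiniteDimensional k (M i)]

/-- Endomorphisms of the product are diagonal scalars. -/
theorem end_pi_diag (hne : ∀ i j, i ≠ j → ∀ φ : M i →ₗ[R] M j, φ = 0) (φ : End R (Π i, M i)) :
    ∃ c : ι → k, ∀ (v : Π i, M i) (j : ι), φ v j = c j • v j := by
  classical
  have hscal : ∀ j, ∃ c : k, ∀ m : M j, φ (Pi.single j m) j = c • m := by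
    intro j
    let ψ : End R (M j) := (LinearMap.proj j).comp (φ.comp (LinearMap.single R M j))
    obtain ⟨c, hc⟩ := (IsSimpleModule.algebraMap_end_bijective_of_isAlgClosed
      (A := R) (V := M j) k).2 ψ
    refine ⟨c, fun m => ?_⟩
    have h1 : (algebraMap k (End R (M j)) c) m = ψ m := by rw [hc]
    have h2 : ψ m = φ (Pi.single j m) j := rfl
    rw [← h2, ← h1]
    rfl
  choose c hc using hscal
  refine ⟨c, fun v j => ?_⟩
  have hv : v = ∑ i, Pi.single i (v i) := (Finset.univ_sum_single v).symm
  conv_lhs => rw [hv]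
  rw [map_sum, Finset.sum_apply, Finset.sum_eq_single j]
  · exact hc j (v j)
  · intro i _ hij
    let ψ : M i →ₗ[R] M j := (LinearMap.proj j).comp (φ.comp (LinearMap.single R M i))
    have h0 := hne i j hij ψ
    have h2 : ψ (v i) = φ (Pi.single i (v i)) j := rfl
    rw [← h2, h0]
    rfl
  · intro h
    exact absurd (Finset.mem_univ _) h

/-- The density statement. -/
theorem exists_element (hne : ∀ i j, i ≠ j → ∀ φ : M i →ₗ[R] M j, φ = 0) (i₀ : ι)
    (A : End k (M i₀)) : ∃ r : R, (∀ m, r • m = A m) ∧ ∀ i, i ≠ i₀ → ∀ m : M i, r • m = 0 := by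
  classical
  let V := Π i, M i
  haveI : IsSemisimpleModule R V := inferInstance
  -- the map
  let f₀ : V →ₗ[k] V := (LinearMap.single k M i₀).comp (A.comp (LinearMap.proj i₀))
  have hf₀ : ∀ (φ : End R V) (v : V), f₀ (φ v) = φ (f₀ v) := by
    intro φ v
    obtain ⟨c, hc⟩ := end_pi_diag (k := k) hne φ
    funext j
    rw [hc]
    show (Pi.single i₀ (A (φ v i₀)) : V) j = c j • (Pi.single i₀ (A (v i₀)) : V) j
    by_cases hj : j = i₀
    · subst hj
      rw [Pi.single_eq_same, Pi.single_eq_same, hc, map_smul]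
    · rw [Pi.single_eq_of_ne hj, Pi.single_eq_of_ne hj, smul_zero]
  let f : End (End R V) V :=
    { toFun := f₀
      map_add' := f₀.map_add
      map_smul' := by
        intro φ v
        exact hf₀ φ v }
  let bas := Module.finBasis k V
  obtain ⟨r, hr⟩ := jacobson_density f (Finset.univ.image bas)
  have hall : ∀ v : V, f₀ v = r • v := by
    intro v
    have h1 : f₀ = (Algebra.lsmul k k V r) := by
      apply bas.ext
      intro i
      exact hr _ (Finset.mem_image_of_mem _ (Finset.mem_univ _))
    rw [h1]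
    rfl
  refine ⟨r, fun m => ?_, fun i hi m => ?_⟩
  · have h1 := hall (Pi.single i₀ m)
    have h2 := congrFun h1 i₀
    have h3 : f₀ (Pi.single i₀ m) i₀ = A m := by
      show (Pi.single i₀ (A ((Pi.single i₀ m : V) i₀)) : V) i₀ = A m
      rw [Pi.single_eq_same, Pi.single_eq_same]
    rw [h3] at h2
    rw [h2]
    show _ = r • (Pi.single i₀ m : V) i₀
    rw [Pi.single_eq_same]
  · have h1 := hall (Pi.single i m)
    have h2 := congrFun h1 i
    have h3 : f₀ (Pi.single i m) i = 0 := by
      show (Pi.single i₀ (A ((Pi.single i m : V) i₀)) : V) i = 0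
      rw [Pi.single_eq_of_ne hi]
    rw [h3] at h2
    have h4 : (r • (Pi.single i m : V)) i = r • m := by
      show r • (Pi.single i m : V) i = r • m
      rw [Pi.single_eq_same]
    rw [← h4, ← h2]

/-- The trace statement. -/
theorem exists_trace_separate (hne : ∀ i j, i ≠ j → ∀ φ : M i →ₗ[R] M j, φ = 0) (i₀ : ι) :
    ∃ r : R, LinearMap.trace k (M i₀) (Algebra.lsmul k k (M i₀) r) = 1 ∧
      ∀ i, i ≠ i₀ → LinearMap.trace k (M i) (Algebra.lsmul k k (M i) r) = 0 := by
  classical
  haveI : Nontrivial (M i₀) := IsSimpleModule.nontrivial R (M i₀)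
  obtain ⟨v, hv⟩ := exists_ne (0 : M i₀)
  obtain ⟨f, hf⟩ : ∃ f : Dual k (M i₀), f v = 1 := by
    have hv' : v ∉ (⊥ : Submodule k (M i₀)) := by simpa using hv
    obtain ⟨f₀, hf₀, -⟩ := Submodule.exists_le_ker_of_notMem hv'
    have hf₀' : f₀ v ≠ 0 := hf₀
    refine ⟨(f₀ v)⁻¹ • f₀, ?_⟩
    show (f₀ v)⁻¹ • f₀ v = 1
    rw [smul_eq_mul, inv_mul_cancel₀ hf₀']
  obtain ⟨r, hr, hr0⟩ := exists_element hne i₀ (f.smulRight v)
  refine ⟨r, ?_, fun i hi => ?_⟩
  · have h1 : Algebra.lsmul k k (M i₀) r = f.smulRight v := by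
      apply LinearMap.ext
      intro m
      exact hr m
    rw [h1, LinearMap.trace_smulRight, hf]
  · have h1 : Algebra.lsmul k k (M i) r = 0 := by
      apply LinearMap.ext
      intro m
      exact hr0 i hi m
    rw [h1, map_zero]

end Cfsg.Agent.Lib.ModRep.Density
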