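import Mathlib

/-!
# Linear characters of the normalizer of a subgroup of prime order
-/

set_option autoImplicit false
set_option linter.style.haveILetI false

namespace Cfsg.Agent.Lib.ModRep.Homs

variable {G : Type*} [Group G] [Finite G] {k : Type*} [Field k]

/-- There are `e` distinct linear characters of `N(P)` in characteristic `p` trivial on `C(P)`. -/
theorem exists_homs {p : ℕ} [hp : Fact p.Prime] [CharP k p] (P : Subgroup G) (hP : Nat.card P = p) (e : ℕ)
    (he : (Subgroup.centralizer (P : Set G)).relIndex (Subgroup.normalizer (P : Set G)) = e) :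
    ∃ μ : Fin e → (Subgroup.normalizer (P : Set G) →* kˣ), Function.Injective μ ∧
      ∀ j (n : Subgroup.normalizer (P : Set G)), (n : G) ∈ Subgroup.centralizer (P : Set G) → μ j n = 1 := by
  classical
  subst hP
  haveI : Fact (Nat.card P).Prime := hp
  haveI : IsCyclic P := isCyclic_of_prime_card rfl
  haveI : Finite (ZMod (Nat.card P)) := inferInstance
  let α : Subgroup.normalizer (P : Set G) →* (ZMod (Nat.card P))ˣ :=
    (IsCyclic.mulAutMulEquiv P).toMonoidHom.comp P.normalizerMonoidHom
  have hker : α.ker = (Subgroup.centralizer (P : Set G)).subgroupOf (Subgroup.normalizer (P : Set G)) := by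
    rw [← P.normalizerMonoidHom_ker]
    ext n
    simp [α, MonoidHom.mem_ker]
  have hcard : Nat.card α.range = e := by
    rw [← Subgroup.index_ker, hker]
    exact he
  haveI : IsCyclic α.range := inferInstance
  obtain ⟨a₀, ha₀⟩ := IsCyclic.exists_generator (α := α.range)
  have hord : orderOf a₀ = e := by
    rw [orderOf_eq_card_of_forall_mem_zpowers ha₀, hcard]
  obtain ⟨n₀, hn₀⟩ := a₀.2
  let θ₀ : ZMod (Nat.card P) →+* k := ZMod.castHom (dvd_refl _) k
  let θ : (ZMod (Nat.card P))ˣ →* kˣ := Units.map θ₀.toMonoidHom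
  have hθ : Function.Injective θ := Units.map_injective θ₀.injective
  let ϖ : Subgroup.normalizer (P : Set G) →* kˣ := θ.comp α
  refine ⟨fun j => ϖ ^ (j : ℕ), ?_, ?_⟩
  · intro i j hij
    have h1 := congrArg (fun f => f n₀) hij
    simp only [MonoidHom.pow_apply] at h1
    have h2 : ϖ n₀ = θ (a₀ : (ZMod (Nat.card P))ˣ) := by
      show θ (α n₀) = _
      rw [hn₀]
    rw [h2, ← map_pow, ← map_pow] at h1
    have h3 := hθ h1
    have h4 : a₀ ^ (i : ℕ) = a₀ ^ (j : ℕ) := Subtype.ext (by simpa using h3)
    have h5 := pow_injOn_Iio_orderOf (by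
      rw [Set.mem_Iio, hord]
      exact i.2) (by
      rw [Set.mem_Iio, hord]
      exact j.2) h4
    exact Fin.ext h5
  · intro j n hn
    have h1 : α n = 1 := by
      have h2 : n ∈ α.ker := by
        rw [hker, Subgroup.mem_subgroupOf]
        exact hn
      exact h2
    simp [ϖ, h1]

end Cfsg.Agent.Lib.ModRep.Homs
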