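import Mathlib
import Cfsg.Agent.Lib.ModRep.Class

/-!
# Simple modules with a prescribed Tate class

For a linear character `μ` of the normalizer `N` of a subgroup `P` of order `p`, let
`b = ∑_{n ∈ N} μ(n)⁻¹ n ∈ kG` and `I = kG b` (the induced module).  There is a maximal submodule `W` of
`I` such that the image of `b` in `I / W` does not lie in `b (I / W)`.
-/

set_option autoImplicit false
set_option linter.style.haveILetI false

namespace Cfsg.Agent.Lib.ModRep.Ind

open Module MonoidAlgebra Cfsg.Agent.Lib.ModRep.Tate

universe u v w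

variable {k : Type u} [Field k] {G : Type v} [Group G] [Fintype G]

/-- The element `b`. -/
noncomputable def bElt (N : Subgroup G) [Fintype N] (μ : N →* kˣ) : MonoidAlgebra k G :=
  ∑ n : N, single (n : G) (((μ n)⁻¹ : kˣ) : k)

theorem bElt_apply_one (N : Subgroup G) [Fintype N] (μ : N →* kˣ) : (bElt N μ).coeff 1 = 1 := by
  classical
  unfold bElt
  rw [coeff_sum, Finsupp.finsetSum_apply, Finset.sum_eq_single (1 : N)]
  · simp
  · intro n _ hn
    rw [coeff_single, Finsupp.single_apply, if_neg]
    intro h
    exact hn (Subtype.ext h)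
  · intro h
    exact absurd (Finset.mem_univ _) h

/-- Left multiplication by an element of `N`. -/
theorem single_mul_bElt (N : Subgroup G) [Fintype N] (μ : N →* kˣ) (g : N) :
    single (g : G) (1 : k) * bElt N μ = ((μ g : kˣ) : k) • bElt N μ := by
  classical
  unfold bElt
  rw [Finset.mul_sum, Finset.smul_sum]
  refine Fintype.sum_equiv (Equiv.mulLeft g) _ _ fun n => ?_
  rw [single_mul_single, one_mul, smul_single, smul_eq_mul]
  congr 1
  simp only [Equiv.coe_mulLeft, map_mul, mul_inv_rev, Units.val_mul]
  rw [mul_comm, mul_assoc, ← Units.val_mul, inv_mul_cancel, Units.val_one, mul_one]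

/-- The norm element of `P`. -/
noncomputable def nElt (P : Subgroup G) [Fintype P] : MonoidAlgebra k G :=
  ∑ u : P, single (u : G) (1 : k)

section Main

variable {P N : Subgroup G} [Fintype P] [Fintype N] (hPN : P ≤ N) (μ : N →* kˣ)
  (hμP : ∀ u (hu : u ∈ P), μ ⟨u, hPN hu⟩ = 1)

include hμP in
theorem single_mul_bElt_of_mem {u : G} (hu : u ∈ P) :
    single u (1 : k) * bElt N μ = bElt N μ := by
  have h1 := single_mul_bElt N μ ⟨u, hPN hu⟩
  rw [hμP u hu] at h1
  simpa using h1

include hμP in
theorem nElt_mul_bElt {p : ℕ} [CharP k p] (hP : Nat.card P = p) :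
    (nElt P : MonoidAlgebra k G) * bElt N μ = 0 := by
  unfold nElt
  rw [Finset.sum_mul]
  simp_rw [single_mul_bElt_of_mem hPN μ hμP (Subtype.property _)]
  rw [Finset.sum_const, Finset.card_univ, ← Nat.card_eq_fintype_card, hP, ← Nat.cast_smul_eq_nsmul k,
    CharP.cast_eq_zero, zero_smul]

include hμP in
/-- The coefficient at `1` of `n a b` is zero. -/
theorem coeff_one_eq_zero {p : ℕ} [CharP k p] (hP : Nat.card P = p) (a : MonoidAlgebra k G) :
    ((nElt P : MonoidAlgebra k G) * a * bElt N μ).coeff 1 = 0 := by
  classical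
  induction a using MonoidAlgebra.induction_on with
  | of g =>
    by_cases hg : g ∈ N
    · have h1 : (nElt P : MonoidAlgebra k G) * of k G g * bElt N μ =
          ((μ ⟨g, hg⟩ : kˣ) : k) • ((nElt P : MonoidAlgebra k G) * bElt N μ) := by
        rw [mul_assoc, of_apply, single_mul_bElt N μ ⟨g, hg⟩, mul_smul_comm]
      rw [h1, nElt_mul_bElt hPN μ hμP hP, smul_zero]
      rfl
    · unfold nElt bElt
      rw [Finset.sum_mul, Finset.sum_mul, coeff_sum, Finsupp.finsetSum_apply]
      refine Finset.sum_eq_zero fun u _ => ?_
      rw [Finset.mul_sum, coeff_sum, Finsupp.finsetSum_apply]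
      refine Finset.sum_eq_zero fun n _ => ?_
      rw [of_apply, single_mul_single, single_mul_single, coeff_single, Finsupp.single_apply, if_neg]
      intro h
      apply hg
      have h2 : g = (u : G)⁻¹ * (n : G)⁻¹ := by
        have h3 : (u : G) * g * (n : G) = 1 := h
        calc g = (u : G)⁻¹ * ((u : G) * g * (n : G)) * (n : G)⁻¹ := by group
          _ = _ := by rw [h3]; group
      rw [h2]
      exact N.mul_mem (N.inv_mem (hPN u.2)) (N.inv_mem n.2)
  | add a b ha hb =>
    rw [mul_add, add_mul, coeff_add, Finsupp.add_apply, ha, hb, add_zero]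
  | smul c a ha =>
    rw [mul_smul_comm, smul_mul_assoc, coeff_smul_apply, ha, smul_zero]

/-- Elements invariant under left multiplication by `P` are in the image of the norm. -/
theorem exists_eq_nElt_mul (a : MonoidAlgebra k G) (ha : ∀ u ∈ P, single u (1 : k) * a = a) :
    ∃ y : MonoidAlgebra k G, a = (nElt P : MonoidAlgebra k G) * y := by
  classical
  letI : MulAction P G := inferInstance
  let act : P → MonoidAlgebra k G →+ MonoidAlgebra k G :=
    fun u => AddMonoidHom.mulLeft (single (u : G) (1 : k))
  let φ : G → MonoidAlgebra k G := fun g => single g (a.coeff g)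
  obtain ⟨y, hy⟩ := Free.exists_sum_eq act
    (by
      intro u c huc
      apply Subtype.ext
      have h1 : (u : G) * c = c := huc
      exact mul_eq_right.mp h1)
    φ (by
      intro u g
      show single ((u : G) * g) (a.coeff ((u : G) * g)) = single (u : G) (1 : k) * single g (a.coeff g)
      rw [single_mul_single, one_mul]
      congr 1
      have h1 : (single (u : G) (1 : k) * a).coeff ((u : G) * g) = a.coeff ((u : G) * g) := by
        rw [ha u u.2]
      rw [coeff_single_mul_eq_mul_coeff (m₂ := g) (by
        intro m' _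
        exact mul_right_inj _), one_mul] at h1
      exact h1.symm)
  refine ⟨y, ?_⟩
  have h2 : a = ∑ g, φ g := by
    ext g
    rw [coeff_sum, Finsupp.finsetSum_apply, Finset.sum_eq_single g]
    · simp [φ]
    · intro h _ hh
      simp [φ, Finsupp.single_apply, hh]
    · intro h
      exact absurd (Finset.mem_univ _) h
  rw [h2, hy]
  unfold nElt
  rw [Finset.sum_mul]
  rfl

end Main

section Coatom

variable {P N : Subgroup G} [Fintype P] [Fintype N]

/-- The main existence theorem. -/
theorem exists_coatom {p : ℕ} [CharP k p] (hPN : P ≤ N) (μ : N →* kˣ)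
    (hμP : ∀ u (hu : u ∈ P), μ ⟨u, hPN hu⟩ = 1) (hP : Nat.card P = p) :
    let b : MonoidAlgebra k G := bElt N μ
    let I : Submodule (MonoidAlgebra k G) (MonoidAlgebra k G) :=
      Submodule.span (MonoidAlgebra k G) {b}
    let b' : I := ⟨b, Submodule.mem_span_singleton_self b⟩
    ∃ W : Submodule (MonoidAlgebra k G) I, IsCoatom W ∧ ∀ i : I, b' - b • i ∉ W := by
  classical
  intro b I b'
  by_contra hcon
  push Not at hcon
  let R := MonoidAlgebra k G
  have hgen : ∀ i : I, ∃ r : R, r • b' = i := by
    intro i
    obtain ⟨r, hr⟩ := Submodule.mem_span_singleton.mp i.2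
    exact ⟨r, Subtype.ext hr⟩
  -- finiteness
  haveI hfd : FiniteDimensional k I :=
    inferInstanceAs (FiniteDimensional k (I.restrictScalars k))
  haveI : IsArtinian R I := isArtinian_of_tower k inferInstance
  haveI : IsNoetherian R I := isNoetherian_of_tower k inferInstance
  -- minimal element
  let S : Set (Submodule R I) := {A | ∃ i : I, b' - b • i ∈ A}
  have hSne : S.Nonempty := ⟨⊤, 0, trivial⟩
  obtain ⟨A₀, hA₀, hmin⟩ := wellFounded_lt.has_min S hSne
  have hA₀W : ∀ W : Submodule R I, IsCoatom W → A₀ ≤ W := by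
    intro W hW
    by_contra hle
    obtain ⟨i', hi'⟩ := hA₀
    obtain ⟨i'', hi''⟩ := hcon W hW
    have hsup : A₀ ⊔ W = ⊤ := by
      by_contra hne
      have h1 : W < A₀ ⊔ W := lt_of_le_of_ne le_sup_right (by
        intro h
        exact hle (h ▸ le_sup_left))
      exact hne (hW.2 _ h1)
    have hmem : i'' - i' ∈ A₀ ⊔ W := by rw [hsup]; trivial
    obtain ⟨a', ha', w', hw', haw⟩ := Submodule.mem_sup.mp hmem
    have hnew : A₀ ⊓ W ∈ S := by
      refine ⟨i' + a', ?_, ?_⟩
      · have h1 : b' - b • (i' + a') = (b' - b • i') - b • a' := by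
          rw [smul_add]
          abel
        rw [h1]
        exact A₀.sub_mem hi' (A₀.smul_mem b ha')
      · have h2 : i' + a' = i'' - w' := by
          rw [eq_sub_iff_add_eq, add_assoc, haw]
          abel
        have h1 : b' - b • (i' + a') = (b' - b • i'') + b • w' := by
          rw [h2, smul_sub]
          abel
        rw [h1]
        exact W.add_mem hi'' (W.smul_mem b hw')
    apply hmin _ hnew
    refine lt_of_le_of_ne inf_le_left ?_
    intro h
    exact hle (h ▸ inf_le_right)
  obtain ⟨i₀, hi₀⟩ := hA₀
  have hcoat : ∀ W : Submodule R I, IsCoatom W → b' - b • i₀ ∈ W := fun W hW => hA₀W W hW hi₀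
  -- `b • i₀` generates
  have hX : Submodule.span R {b • i₀} = ⊤ := by
    by_contra hne
    obtain ⟨W, hW, hXW⟩ := (eq_top_or_exists_le_coatom (Submodule.span R {b • i₀})).resolve_left hne
    have h1 : b • i₀ ∈ W := hXW (Submodule.mem_span_singleton_self _)
    have h2 : b' ∈ W := by
      have h3 := W.add_mem (hcoat W hW) h1
      simpa using h3
    apply hW.1
    rw [eq_top_iff]
    intro i _
    obtain ⟨r, rfl⟩ := hgen i
    exact W.smul_mem r h2
  -- the endomorphism
  let L : I →ₗ[R] I := (LinearMap.toSpanSingleton R I i₀).comp I.subtype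
  have hL : ∀ z : I, L z = (z : R) • i₀ := fun z => rfl
  have hLsurj : Function.Surjective L := by
    rw [← LinearMap.range_eq_top, eq_top_iff, ← hX, Submodule.span_singleton_le_iff_mem]
    exact ⟨b', rfl⟩
  have hLinj : Function.Injective L := by
    have h1 : Function.Injective (L.restrictScalars k) :=
      (LinearMap.injective_iff_surjective (f := L.restrictScalars k)).mpr hLsurj
    exact h1
  obtain ⟨b'', hb''⟩ := hLsurj b'
  have hinv : ∀ u ∈ P, single u (1 : k) * (b'' : R) = b'' := by
    intro u hu
    have h1 : L ((single u (1 : k) : R) • b'') = L b'' := by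
      rw [map_smul, hb'']
      apply Subtype.ext
      exact single_mul_bElt_of_mem hPN μ hμP hu
    exact congrArg Subtype.val (hLinj h1)
  obtain ⟨y, hy⟩ := exists_eq_nElt_mul (P := P) (b'' : R) hinv
  obtain ⟨r, hr⟩ := hgen i₀
  have h5 : b = (nElt P : R) * (y * r) * b := by
    have h6 := congrArg Subtype.val hb''
    rw [hL] at h6
    have h7 : (i₀ : R) = r * b := (congrArg Subtype.val hr).symm
    have h8 : (((b'' : R) • i₀ : I) : R) = (b'' : R) * (i₀ : R) := rfl
    rw [h8, h7, hy] at h6
    have h9 : ((b' : I) : R) = b := rfl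
    rw [h9] at h6
    calc b = (nElt P : R) * y * (r * b) := h6.symm
      _ = (nElt P : R) * (y * r) * b := by simp only [mul_assoc]
  have h10 : b.coeff 1 = 1 := bElt_apply_one N μ
  rw [h5, coeff_one_eq_zero hPN μ hμP hP] at h10
  exact zero_ne_one h10

end Coatom

section Rep

variable {M : Type w} [AddCommGroup M] [Module (MonoidAlgebra k G) M] [Module k M]
  [IsScalarTower k (MonoidAlgebra k G) M]

/-- The group representation attached to a `kG`-module. -/
noncomputable def repOf (k : Type u) [Field k] (G : Type v) [Group G] (M : Type w) [AddCommGroup M]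
    [Module (MonoidAlgebra k G) M] [Module k M] [IsScalarTower k (MonoidAlgebra k G) M] :
    G →* End k M where
  toFun g := Algebra.lsmul k k M (single g (1 : k) : MonoidAlgebra k G)
  map_one' := by
    have : (single (1 : G) (1 : k) : MonoidAlgebra k G) = 1 := rfl
    rw [this, map_one]
  map_mul' g h := by
    have : (single (g * h) (1 : k) : MonoidAlgebra k G) = single g 1 * single h 1 := by
      rw [single_mul_single, one_mul]
    rw [this, map_mul]

theorem repOf_apply (g : G) (m : M) : repOf k G M g m = (single g (1 : k) : MonoidAlgebra k G) • m := rfl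

/-- Schur's lemma for `repOf`. -/
theorem schur_repOf [IsAlgClosed k] [IsSimpleModule (MonoidAlgebra k G) M] [FiniteDimensional k M] :
    Schur (repOf k G M) := by
  intro A hA
  let A' : M →ₗ[MonoidAlgebra k G] M :=
    { toFun := A
      map_add' := A.map_add
      map_smul' := by
        intro r m
        simp only [RingHom.id_apply]
        induction r using MonoidAlgebra.induction_on with
        | of g =>
          have h1 := congrArg (fun T : End k M => T m) (hA g).eq
          simp only [Module.End.mul_apply] at h1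
          exact h1
        | add a b ha hb => rw [add_smul, map_add, ha, hb, add_smul]
        | smul c a ha =>
          rw [smul_assoc, map_smul, ha, smul_assoc] }
  obtain ⟨c, hc⟩ := (IsSimpleModule.algebraMap_end_bijective_of_isAlgClosed
    (A := MonoidAlgebra k G) (V := M) k).2 A'
  refine ⟨c, ?_⟩
  apply LinearMap.ext
  intro m
  have h1 : (algebraMap k (End (MonoidAlgebra k G) M) c) m = A' m := by rw [hc]
  show A m = c • m
  have h2 : A' m = A m := rfl
  rw [← h2, ← h1]
  rfl

end Rep

/-- The simple module. -/
theorem exists_simple_module {P N : Subgroup G} [Fintype P] [Fintype N] {p : ℕ} [CharP k p]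
    (hPN : P ≤ N) (μ : N →* kˣ)
    (hμP : ∀ u (hu : u ∈ P), μ ⟨u, hPN hu⟩ = 1) (hP : Nat.card P = p) :
    ∃ (M : Type (max u v)) (_ : AddCommGroup M) (_ : Module (MonoidAlgebra k G) M) (_ : Module k M)
      (_ : IsScalarTower k (MonoidAlgebra k G) M),
      IsSimpleModule (MonoidAlgebra k G) M ∧ FiniteDimensional k M ∧ ∃ z : M,
        (∀ n : N, (single (n : G) (1 : k) : MonoidAlgebra k G) • z = ((μ n : kˣ) : k) • z) ∧
        ∀ m : M, (bElt N μ : MonoidAlgebra k G) • m ≠ z := by
  classical
  obtain ⟨W, hW, hWb⟩ := exists_coatom hPN μ hμP hP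
  let b : MonoidAlgebra k G := bElt N μ
  let I : Submodule (MonoidAlgebra k G) (MonoidAlgebra k G) :=
    Submodule.span (MonoidAlgebra k G) {b}
  let b' : I := ⟨b, Submodule.mem_span_singleton_self b⟩
  haveI hfd : FiniteDimensional k I :=
    inferInstanceAs (FiniteDimensional k (I.restrictScalars k))
  refine ⟨I ⧸ W, inferInstance, inferInstance, inferInstance, inferInstance, ?_, ?_, W.mkQ b', ?_, ?_⟩
  · exact isSimpleModule_iff_isCoatom.mpr hW
  · exact Module.Finite.of_surjective (W.mkQ.restrictScalars k) (Submodule.mkQ_surjective W)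
  · intro n
    rw [← map_smul]
    have h1 : (single (n : G) (1 : k) : MonoidAlgebra k G) • b' = ((μ n : kˣ) : k) • b' := by
      apply Subtype.ext
      exact single_mul_bElt N μ n
    rw [h1]
    rfl
  · intro m hm
    obtain ⟨i, rfl⟩ := Submodule.mkQ_surjective W m
    rw [← map_smul] at hm
    apply hWb i
    have h2 : W.mkQ (b' - b • i) = 0 := by
      rw [map_sub, sub_eq_zero]
      exact hm.symm
    exact (Submodule.Quotient.mk_eq_zero W).mp h2

end Cfsg.Agent.Lib.ModRep.Ind
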