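import Mathlib
import Cfsg.Prelude.Def_Blocks

/-!
# The residue field of the ring of algebraic integers is algebraically closed
-/

set_option autoImplicit false
set_option linter.style.haveILetI false

namespace Cfsg.Agent.Lib.ModRep.Residue

open Cfsg Polynomial

theorem isAlgClosed_residue (M : Ideal AlgInt) [hM : M.IsMaximal] :
    letI := Ideal.Quotient.field M
    IsAlgClosed (AlgInt ⧸ M) := by
  letI := Ideal.Quotient.field M
  refine IsAlgClosed.of_exists_root _ ?_
  intro f hf hirr
  have hsurj : Function.Surjective (Ideal.Quotient.mk M) := Ideal.Quotient.mk_surjective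
  have hlift : f ∈ Polynomial.lifts (Ideal.Quotient.mk M) :=
    (Polynomial.mem_lifts f).mpr (Polynomial.map_surjective _ hsurj f)
  obtain ⟨q, hq, hdeg, hqm⟩ := Polynomial.lifts_and_natDegree_eq_and_monic hlift hf
  have hdeg0 : f.natDegree ≠ 0 := by
    intro h
    exact hirr.natDegree_pos.ne' h
  let q' : ℂ[X] := q.map (algebraMap AlgInt ℂ)
  have hq'deg : q'.degree ≠ 0 := by
    have h1 : q'.natDegree = q.natDegree := (hqm.natDegree_map _)
    have h2 : q'.natDegree ≠ 0 := by rw [h1, hdeg]; exact hdeg0
    intro h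
    exact h2 (Polynomial.natDegree_eq_of_degree_eq_some h)
  obtain ⟨α, hα⟩ := IsAlgClosed.exists_root q' hq'deg
  have hαint : IsIntegral AlgInt α := ⟨q, hqm, by
    have := hα
    rwa [Polynomial.IsRoot.def, Polynomial.eval_map] at this⟩
  have hαZ : IsIntegral ℤ α := isIntegral_trans (R := ℤ) (A := AlgInt) α hαint
  let a : AlgInt := ⟨α, hαZ⟩
  refine ⟨Ideal.Quotient.mk M a, ?_⟩
  have h1 : q.eval a = 0 := by
    apply Subtype.ext
    have h2 : algebraMap AlgInt ℂ (q.eval a) = q'.eval α := by
      rw [Polynomial.eval_map]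
      exact (Polynomial.eval₂_at_apply (algebraMap AlgInt ℂ) a).symm
    have h3 : q'.eval α = 0 := hα
    rw [h3] at h2
    exact h2
  rw [← hq, Polynomial.eval_map, Polynomial.eval₂_at_apply, h1, map_zero]

end Cfsg.Agent.Lib.ModRep.Residue
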