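import Mathlib
import Cfsg.Agent.Lib.Blocks.Sections
import Cfsg.Agent.Lib.Blocks.Weak
import Cfsg.Agent.Lib.Blocks.PPart
import Cfsg.Agent.Lib.Char.Complete
import Cfsg.Agent.Lib.Char.Eigen
import Cfsg.Agent.Lib.BlockP.Stable
import Cfsg.Agent.Lib.Blocks.Third

/-!
# Reductions of irreducible characters span the class functions constant on sections
-/

set_option autoImplicit false
set_option linter.style.haveILetI false
set_option linter.unusedSectionVars false

namespace Cfsg.Agent.Lib.ModRep.Span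

open Module Cfsg Cfsg.Agent.Lib.Blocks.Local Cfsg.Agent.Lib.Blocks.Central
open scoped ComplexConjugate

universe u v

section Integral

/-- The trace of an operator with `A ^ (n + 1) = A` is an algebraic integer. -/
theorem isIntegral_trace_of_pow_eq {V : Type*} [AddCommGroup V] [Module ℂ V] [FiniteDimensional ℂ V]
    (A : End ℂ V) {n : ℕ} (hn : 0 < n) (hA : A ^ (n + 1) = A) : IsIntegral ℤ (LinearMap.trace ℂ V A) := by
  rw [Module.End.trace_eq_sum_roots_charpoly_of_splits (IsAlgClosed.splits _)]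
  apply IsIntegral.multiset_sum
  intro μ hμ
  have hroot : (LinearMap.charpoly A).IsRoot μ := (Polynomial.mem_roots'.mp hμ).2
  have hev : End.HasEigenvalue A μ := (Module.End.hasEigenvalue_iff_isRoot_charpoly A μ).mpr hroot
  obtain ⟨v, hv⟩ := hev.exists_hasEigenvector
  have h1 : ∀ k : ℕ, (A ^ k) v = μ ^ k • v := by
    intro k
    induction k with
    | zero => simp
    | succ k ih =>
      rw [pow_succ, Module.End.mul_apply, hv.apply_eq_smul, map_smul, ih, smul_smul, pow_succ, mul_comm]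
  have h2 : μ ^ (n + 1) = μ := by
    have h3 := h1 (n + 1)
    rw [hA, hv.apply_eq_smul] at h3
    by_contra hne
    have h4 : (μ - μ ^ (n + 1)) • v = 0 := by
      rw [sub_smul, h3, sub_self]
    rcases smul_eq_zero.mp h4 with h5 | h5
    · exact hne (sub_eq_zero.mp h5).symm
    · exact hv.2 h5
  refine ⟨Polynomial.X ^ (n + 1) - Polynomial.X, ?_, ?_⟩
  · exact Polynomial.monic_X_pow_sub (by
      rw [Polynomial.degree_X]
      exact_mod_cast Nat.lt_add_of_pos_left hn)
  · simp [h2]

end Integral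

variable {G : Type u} [Group G] [Fintype G]

/-- The value of an irreducible character as an algebraic integer. -/
noncomputable def val (χ : IrrCharacter G) (g : G) : AlgInt :=
  ⟨(χ : G → ℂ) g, Cfsg.Agent.Lib.BlockP.Stable.isIntegral_irr χ g⟩

@[simp] theorem coe_val (χ : IrrCharacter G) (g : G) : ((val χ g : AlgInt) : ℂ) = (χ : G → ℂ) g := rfl

/-- The central character as an algebraic integer. -/
noncomputable def cc (χ : IrrCharacter G) (g : G) : AlgInt :=
  ⟨centralChar (χ : G → ℂ) g, isIntegral_centralChar χ g⟩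

@[simp] theorem coe_cc (χ : IrrCharacter G) (g : G) : ((cc χ g : AlgInt) : ℂ) = centralChar (χ : G → ℂ) g := rfl

/-- The averaged conjugate character value is integral. -/
theorem isIntegral_avg (χ : IrrCharacter G) {y : G} {Q : Subgroup G} [Fintype Q]
    (hQ : ∀ u ∈ Q, Commute y u) :
    IsIntegral ℤ (((Nat.card Q : ℕ) : ℂ)⁻¹ * ∑ u : Q, conj ((χ : G → ℂ) (y * u))) := by
  classical
  obtain ⟨χ, n, ρ, hρ, rfl⟩ := χ
  show IsIntegral ℤ (((Nat.card Q : ℕ) : ℂ)⁻¹ * ∑ u : Q, conj (ρ.character (y * u)))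
  have hcard : ((Nat.card Q : ℕ) : ℂ) ≠ 0 := by
    have : Nat.card Q ≠ 0 := Nat.card_pos.ne'
    exact_mod_cast this
  let e : End ℂ (Fin n → ℂ) := ((Nat.card Q : ℕ) : ℂ)⁻¹ • ∑ u : Q, ρ (u : G)
  have hsum : (∑ u : Q, ρ (u : G)) * (∑ u : Q, ρ (u : G)) =
      ((Nat.card Q : ℕ) : ℂ) • ∑ u : Q, ρ (u : G) := by
    rw [Finset.mul_sum]
    have h1 : ∀ v : Q, (∑ u : Q, ρ (u : G)) * ρ (v : G) = ∑ u : Q, ρ (u : G) := by
      intro v
      rw [Finset.sum_mul]
      refine Fintype.sum_equiv (Equiv.mulRight v) _ _ fun u => ?_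
      rw [← map_mul]
      rfl
    simp_rw [h1]
    rw [Finset.sum_const, Finset.card_univ, ← Nat.card_eq_fintype_card, Nat.cast_smul_eq_nsmul]
  have he2 : e * e = e := by
    show (((Nat.card Q : ℕ) : ℂ)⁻¹ • ∑ u : Q, ρ (u : G)) * (((Nat.card Q : ℕ) : ℂ)⁻¹ • ∑ u : Q, ρ (u : G)) = _
    rw [smul_mul_smul_comm, hsum, smul_smul, mul_assoc, inv_mul_cancel₀ hcard, mul_one]
  let B : End ℂ (Fin n → ℂ) := ρ y⁻¹
  have hBe : Commute B e := by
    apply Commute.smul_right
    show B * _ = _ * B
    rw [Finset.mul_sum, Finset.sum_mul]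
    refine Finset.sum_congr rfl fun u _ => ?_
    show ρ y⁻¹ * ρ (u : G) = ρ (u : G) * ρ y⁻¹
    rw [← map_mul, ← map_mul]
    have := (hQ u u.2).inv_left.eq
    rw [this]
  let A : End ℂ (Fin n → ℂ) := B * e
  have hA : A ^ (orderOf y + 1) = A := by
    show (B * e) ^ (orderOf y + 1) = B * e
    rw [hBe.mul_pow]
    have h1 : B ^ (orderOf y + 1) = B := by
      show (ρ y⁻¹) ^ (orderOf y + 1) = ρ y⁻¹
      rw [← map_pow, pow_succ, inv_pow, pow_orderOf_eq_one, inv_one, one_mul]
    have h2 : e ^ (orderOf y + 1) = e := by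
      have h3 : IsIdempotentElem e := he2
      exact h3.pow_succ_eq _
    rw [h1, h2]
  have hval : ((Nat.card Q : ℕ) : ℂ)⁻¹ * ∑ u : Q, conj (ρ.character (y * u)) =
      LinearMap.trace ℂ (Fin n → ℂ) A := by
    have h1 : LinearMap.trace ℂ (Fin n → ℂ) A =
        ((Nat.card Q : ℕ) : ℂ)⁻¹ * ∑ u : Q, ρ.character (y⁻¹ * u) := by
      show LinearMap.trace ℂ (Fin n → ℂ) (B * (((Nat.card Q : ℕ) : ℂ)⁻¹ • ∑ u : Q, ρ (u : G))) = _
      rw [mul_smul_comm, map_smul, smul_eq_mul, Finset.mul_sum, map_sum]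
      congr 1
      refine Finset.sum_congr rfl fun u _ => ?_
      show LinearMap.trace ℂ (Fin n → ℂ) (ρ y⁻¹ * ρ (u : G)) = _
      rw [← map_mul]
      rfl
    rw [h1]
    congr 1
    refine Fintype.sum_equiv (Equiv.inv Q) _ _ fun u => ?_
    rw [← Cfsg.Agent.Lib.Char.Eigen.character_inv ρ]
    congr 1
    show (y * (u : G))⁻¹ = y⁻¹ * (u : G)⁻¹
    rw [mul_inv_rev, ((hQ u u.2).inv_inv).eq]
  rw [hval]
  exact isIntegral_trace_of_pow_eq A (orderOf_pos y) hA

variable {M : Ideal AlgInt} {p : ℕ} [hp : Fact p.Prime]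

open scoped Classical in
/-- Generalized characters concentrating on a `p`-regular class. -/
theorem exists_gamma [Fintype (IrrCharacter G)] (y : G) (hy : ¬ p ∣ orderOf y) :
    ∃ (a : IrrCharacter G → AlgInt) (m : ℕ), ¬ p ∣ m ∧ ∀ g, ¬ p ∣ orderOf g →
      ∑ χ : IrrCharacter G, a χ * val χ g = if IsConj y g then (m : AlgInt) else 0 := by
  classical
  let C : Subgroup G := Subgroup.centralizer ({y} : Set G)
  let S : Sylow p C := Classical.arbitrary _
  let Q : Subgroup G := (S : Subgroup C).map C.subtype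
  letI : Fintype Q := Fintype.ofFinite _
  have hQC : ∀ u ∈ Q, Commute y u := by
    rintro _ ⟨c, _, rfl⟩
    have h1 : (c : G) ∈ Subgroup.centralizer ({y} : Set G) := c.2
    rw [Subgroup.mem_centralizer_singleton_iff] at h1
    exact h1.symm
  have hQp : IsPGroup p Q := S.isPGroup'.map C.subtype
  have hcardQ : Nat.card Q = Nat.card S := Subgroup.card_map_of_injective C.subtype_injective
  let m : ℕ := (S : Subgroup C).index
  have hm : ¬ p ∣ m := S.not_dvd_index
  have hCard : Nat.card Q * m = Nat.card C := by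
    rw [hcardQ]
    exact Subgroup.card_mul_index _
  refine ⟨fun χ => ⟨((Nat.card Q : ℕ) : ℂ)⁻¹ * ∑ u : Q, conj ((χ : G → ℂ) (y * u)),
    isIntegral_avg χ hQC⟩, m, hm, ?_⟩
  intro g hg
  apply Subtype.ext
  have hQne : ((Nat.card Q : ℕ) : ℂ) ≠ 0 := by
    have : Nat.card Q ≠ 0 := Nat.card_pos.ne'
    exact_mod_cast this
  have hLHS : ((∑ χ : IrrCharacter G, (⟨((Nat.card Q : ℕ) : ℂ)⁻¹ * ∑ u : Q, conj ((χ : G → ℂ) (y * u)),
      isIntegral_avg χ hQC⟩ : AlgInt) * val χ g : AlgInt) : ℂ) =
      ((Nat.card Q : ℕ) : ℂ)⁻¹ * ∑ u : Q, ∑ χ : IrrCharacter G, (χ : G → ℂ) g * conj ((χ : G → ℂ) (y * u)) := by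
    push_cast
    rw [Finset.sum_comm, Finset.mul_sum]
    refine Finset.sum_congr rfl fun χ _ => ?_
    simp only [coe_val]
    rw [mul_assoc, Finset.sum_mul]
    congr 1
    exact Finset.sum_congr rfl fun u _ => mul_comm _ _
  rw [hLHS]
  simp_rw [Cfsg.Agent.Lib.Char.Complete.sum_irr_mul_conj]
  -- only `u = 1` survives
  rw [Finset.sum_eq_single (1 : Q)]
  · simp only [OneMemClass.coe_one, mul_one]
    have hconj : IsConj g y ↔ IsConj y g := ⟨IsConj.symm, IsConj.symm⟩
    by_cases hgy : IsConj y g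
    · rw [if_pos (hconj.mpr hgy), if_pos hgy]
      have h1 : ((Nat.card C : ℕ) : ℂ) = ((Nat.card Q : ℕ) : ℂ) * (m : ℂ) := by
        rw [← hCard]
        push_cast
        rfl
      show ((Nat.card Q : ℕ) : ℂ)⁻¹ * ((Nat.card C : ℕ) : ℂ) = _
      rw [h1, inv_mul_cancel_left₀ hQne]
      rfl
    · rw [if_neg (fun h => hgy (hconj.mp h)), if_neg hgy]
      simp
  · intro u _ hu
    rw [if_neg]
    intro hc
    have h1 : orderOf g = orderOf (y * (u : G)) := by
      rw [isConj_iff] at hc
      obtain ⟨c, hc⟩ := hc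
      rw [← hc]
      exact (orderOf_injective (MulAut.conj c).toMonoidHom (MulEquiv.injective _) g).symm ▸ rfl
    obtain ⟨n, hn⟩ := (IsPGroup.iff_orderOf.mp hQp) u
    have hcop : Nat.Coprime (orderOf y) (orderOf (u : G)) := by
      have h2 : orderOf (u : G) = orderOf u := Subgroup.orderOf_coe u
      rw [h2, hn]
      exact Nat.Coprime.pow_right _ ((Nat.Prime.coprime_iff_not_dvd hp.out).mpr hy).symm
    have h3 : orderOf (y * (u : G)) = orderOf y * orderOf (u : G) :=
      (hQC u u.2).orderOf_mul_eq_mul_orderOf_of_coprime hcop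
    have hu1 : (u : G) ≠ 1 := fun h => hu (Subtype.ext h)
    have h4 : orderOf (u : G) ≠ 1 := fun h => hu1 (orderOf_eq_one_iff.mp h)
    have h5 : p ∣ orderOf (u : G) := by
      have h2 : orderOf (u : G) = orderOf u := Subgroup.orderOf_coe u
      rw [h2, hn] at h4 ⊢
      rcases Nat.eq_zero_or_pos n with rfl | hn0
      · simp at h4
      · exact dvd_pow_self p hn0.ne'
    apply hg
    rw [h1, h3]
    exact h5.trans (dvd_mul_left _ _)
  · intro h
    exact absurd (Finset.mem_univ _) h

section Reduction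

variable {k : Type v} [Field k] (red : AlgInt →+* k)

/-- The reduction of an irreducible character. -/
noncomputable def bar (χ : IrrCharacter G) (g : G) : k := red (val χ g)

theorem bar_mul_eq (hM : IsPModular p M) (hred : ∀ a ∈ M, red a = 0) (χ : IrrCharacter G) {a b : G}
    (hab : Commute a b) {n : ℕ} (hb : b ^ p ^ n = 1) : bar red χ (a * b) = bar red χ a := by
  haveI := Cfsg.Agent.Lib.Blocks.Local.isPrime_of_pModular hM
  have h1 := Cfsg.Agent.Lib.Blocks.Sections.char_mul_sub_mem hM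
    (Cfsg.Agent.Lib.Char.Basic.isCharacter_of_isIrrCharacter χ.2) hab.symm hb
  rw [hab.symm.eq] at h1
  have h2 : MemLocalIdeal M (((val χ (a * b) - val χ a : AlgInt)) : ℂ) := by
    push_cast
    exact h1
  have h3 := (memLocalIdeal_coe_iff (M := M)).mp h2
  have h4 := hred _ h3
  rw [map_sub, sub_eq_zero] at h4
  exact h4

open scoped Classical in
theorem exists_gamma' [Fintype (IrrCharacter G)] (y : G) :
    ∃ (a : IrrCharacter G → AlgInt) (m : ℕ), ¬ p ∣ m ∧ (¬ p ∣ orderOf y → ∀ g, ¬ p ∣ orderOf g →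
      ∑ χ : IrrCharacter G, a χ * val χ g = if IsConj y g then (m : AlgInt) else 0) := by
  by_cases hy : p ∣ orderOf y
  · exact ⟨0, 1, by
      intro h
      exact hp.out.one_lt.ne' (Nat.dvd_one.mp h), fun h => absurd hy h⟩
  · obtain ⟨a, m, hm, h⟩ := exists_gamma (p := p) y hy
    exact ⟨a, m, hm, fun _ => h⟩

omit [Fintype G] in
theorem orderOf_conj_eq (c g : G) : orderOf (c * g * c⁻¹) = orderOf g := by
  have : c * g * c⁻¹ = MulAut.conj c g := by simp
  rw [this]
  exact MulEquiv.orderOf_eq (MulAut.conj c) g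

/-- Class functions constant on sections are combinations of reductions of irreducible characters. -/
theorem exists_coeffs [Fintype (IrrCharacter G)] (hM : IsPModular p M) (hred : ∀ a ∈ M, red a = 0)
    (hm : ∀ n : ℕ, ¬ p ∣ n → (n : k) ≠ 0) (τ : G → k) (hcl : ∀ g h, IsConj g h → τ g = τ h)
    (hsec : ∀ a b, Commute a b → ∀ n : ℕ, b ^ p ^ n = 1 → τ (a * b) = τ a) :
    ∃ c : IrrCharacter G → k, ∀ g, τ g = ∑ χ, c χ * bar red χ g := by
  classical
  choose a m hmp hsum using fun y : G => exists_gamma' (p := p) y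
  letI : Fintype (ConjClasses G) := Fintype.ofFinite _
  let T : Finset (ConjClasses G) := Finset.univ.filter fun C => ¬ p ∣ orderOf C.out
  refine ⟨fun χ => ∑ C ∈ T, τ C.out * ((m C.out : ℕ) : k)⁻¹ * red (a C.out χ), fun g => ?_⟩
  obtain ⟨x, y, hxy, hcomm, ⟨n, hn⟩, hy⟩ := Cfsg.Agent.Lib.Blocks.PPart.exists_pPart_y (p := p) g
  have hgyx : g = y * x := by rw [← hxy, hcomm.eq]
  have hxpow : x ^ p ^ n = 1 := by rw [← hn, pow_orderOf_eq_one]
  have hτ : τ g = τ y := by
    rw [hgyx]
    exact hsec y x hcomm.symm n hxpow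
  have hbar : ∀ χ, bar red χ g = bar red χ y := by
    intro χ
    rw [hgyx]
    exact bar_mul_eq red hM hred χ hcomm.symm hxpow
  simp_rw [hbar, Finset.sum_mul]
  rw [Finset.sum_comm]
  have h1 : ∀ C ∈ T, ∑ χ : IrrCharacter G, τ C.out * ((m C.out : ℕ) : k)⁻¹ * red (a C.out χ) * bar red χ y =
      τ C.out * ((m C.out : ℕ) : k)⁻¹ * red (if IsConj C.out y then (m C.out : AlgInt) else 0) := by
    intro C hC
    rw [← hsum C.out (Finset.mem_filter.mp hC).2 y hy, map_sum, Finset.mul_sum]
    refine Finset.sum_congr rfl fun χ _ => ?_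
    rw [map_mul]
    simp only [bar, mul_assoc]
  rw [Finset.sum_congr rfl h1]
  have hC₀ : IsConj (ConjClasses.mk y).out y := by
    have h2 : ConjClasses.mk (ConjClasses.mk y).out = ConjClasses.mk y := by
      exact Quotient.out_eq _
    exact ConjClasses.mk_eq_mk_iff_isConj.mp h2
  have hC₀T : ConjClasses.mk y ∈ T := by
    rw [Finset.mem_filter]
    refine ⟨Finset.mem_univ _, ?_⟩
    have h3 : orderOf (ConjClasses.mk y).out = orderOf y := by
      rw [isConj_iff] at hC₀
      obtain ⟨c, hc⟩ := hC₀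
      have h4 := orderOf_conj_eq c (ConjClasses.mk y).out
      rw [hc] at h4
      exact h4.symm
    rw [h3]
    exact hy
  rw [Finset.sum_eq_single (ConjClasses.mk y)]
  · rw [if_pos hC₀, map_natCast, mul_assoc, inv_mul_cancel₀ (hm _ (hmp _)), mul_one, hτ]
    exact (hcl _ _ hC₀).symm
  · intro C _ hne
    rw [if_neg, map_zero, mul_zero]
    intro h
    apply hne
    have h2 : ConjClasses.mk C.out = ConjClasses.mk y := ConjClasses.mk_eq_mk_iff_isConj.mpr h
    rw [← h2]
    exact (Quotient.out_eq C).symm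
  · intro h
    exact absurd hC₀T h

omit hp in
/-- The class sum formula. -/
theorem sum_class_mul (χ : IrrCharacter G) (a g : G) [DecidablePred (IsConj a)] :
    ∑ h ∈ Finset.univ.filter (IsConj a), (χ : G → ℂ) (h * g) = centralChar (χ : G → ℂ) a * (χ : G → ℂ) g := by
  classical
  have h1 := lin_central_mul χ.2 (isCentral_of_mem (classSum a)) (MonoidAlgebra.single g 1)
  rw [Cfsg.Agent.Lib.Blocks.Weak.lin_mul_single, lin_single, one_mul] at h1
  have h2 : omega (χ : G → ℂ) ((classSum a : Subalgebra.center ℂ (GA G)) : GA G) = centralChar (χ : G → ℂ) a :=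
    omegaHom_classSum χ a
  rw [h2] at h1
  rw [← h1, Finset.sum_filter]
  refine Finset.sum_congr rfl fun h _ => ?_
  rw [coeff_classSum]
  split_ifs <;> simp

/-- The class sum formula for reductions. -/
theorem sum_bar (χ : IrrCharacter G) (a g : G) [DecidablePred (IsConj a)] :
    ∑ h ∈ Finset.univ.filter (IsConj a), bar red χ (h * g) = red (cc χ a) * bar red χ g := by
  have h1 : ∑ h ∈ Finset.univ.filter (IsConj a), val χ (h * g) = cc χ a * val χ g := by
    apply Subtype.ext
    push_cast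
    exact sum_class_mul χ a g
  unfold bar
  rw [← map_sum, h1, map_mul]

open scoped Classical in
/-- Eigenvectors: a combination of reductions of characters outside the principal block with the
central character of the principal block is zero. -/
theorem eq_zero_of_eig [Fintype (IrrCharacter G)] (hM : IsPModular p M) (hred : ∀ x, red x = 0 ↔ x ∈ M)
    (S : Finset (IrrCharacter G)) (hS : ∀ χ ∈ S, χ ∉ principalBlock M G) :
    ∀ (d : IrrCharacter G → k) (v : G → k), (∀ g, v g = ∑ χ ∈ S, d χ * bar red χ g) →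
      (∀ a g, ∑ h ∈ Finset.univ.filter (IsConj a), v (h * g) =
        red (cc (Cfsg.Agent.Lib.Blocks.Third.oneI G) a) * v g) → v = 0 := by
  induction S using Finset.induction_on with
  | empty =>
    intro d v hv _
    funext g
    rw [hv g]
    simp
  | insert χ₁ S' hχ₁ ih =>
    intro d v hv heig
    have hχ₁B := hS χ₁ (Finset.mem_insert_self _ _)
    -- a class separating
    have hsep : ∃ a, red (cc χ₁ a) ≠ red (cc (Cfsg.Agent.Lib.Blocks.Third.oneI G) a) := by
      by_contra hcon
      push Not at hcon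
      apply hχ₁B
      rw [Cfsg.Agent.Lib.Blocks.Third.principalBlock_eq_blockOf]
      intro a
      have h1 := hcon a
      have h2 : cc (Cfsg.Agent.Lib.Blocks.Third.oneI G) a - cc χ₁ a ∈ M := by
        rw [← hred, map_sub, h1, sub_self]
      haveI := Cfsg.Agent.Lib.Blocks.Local.isPrime_of_pModular hM
      have h3 := (memLocalIdeal_coe_iff (M := M)).mpr h2
      push_cast at h3
      exact h3
    obtain ⟨a, ha⟩ := hsep
    set c : k := red (cc (Cfsg.Agent.Lib.Blocks.Third.oneI G) a) - red (cc χ₁ a) with hc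
    have hc0 : c ≠ 0 := sub_ne_zero.mpr (Ne.symm ha)
    -- the new function
    let v' : G → k := fun g => c * v g
    have hv' : ∀ g, v' g = ∑ χ ∈ S', (d χ * (red (cc χ a) - red (cc χ₁ a))) * bar red χ g := by
      intro g
      have h1 := heig a g
      have h2 : ∑ h ∈ Finset.univ.filter (IsConj a), v (h * g) =
          ∑ χ ∈ insert χ₁ S', d χ * (red (cc χ a) * bar red χ g) := by
        simp_rw [hv]
        rw [Finset.sum_comm]
        refine Finset.sum_congr rfl fun χ _ => ?_
        rw [← Finset.mul_sum, sum_bar]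
      rw [h2] at h1
      show c * v g = _
      rw [hc, sub_mul, ← h1, hv g, Finset.mul_sum, ← Finset.sum_sub_distrib]
      rw [Finset.sum_insert hχ₁]
      have h3 : d χ₁ * (red (cc χ₁ a) * bar red χ₁ g) - red (cc χ₁ a) * (d χ₁ * bar red χ₁ g) = 0 := by
        ring
      rw [h3, zero_add]
      refine Finset.sum_congr rfl fun χ _ => ?_
      ring
    have hv'0 : v' = 0 := by
      refine ih (fun χ hχ => hS χ (Finset.mem_insert_of_mem hχ))
        (fun χ => d χ * (red (cc χ a) - red (cc χ₁ a))) v' hv' ?_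
      intro a' g
      show ∑ h ∈ Finset.univ.filter (IsConj a'), c * v (h * g) = _ * (c * v g)
      rw [← Finset.mul_sum, heig a' g]
      ring
    funext g
    have h1 := congrFun hv'0 g
    have h2 : c * v g = 0 := h1
    exact (mul_eq_zero.mp h2).resolve_left hc0

open scoped Classical in
/-- A class function constant on sections with the principal central character is a combination of
reductions of characters in the principal block. -/
theorem exists_coeffs_principal [Fintype (IrrCharacter G)] (hM : IsPModular p M)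
    (hred : ∀ x, red x = 0 ↔ x ∈ M) (hm : ∀ n : ℕ, ¬ p ∣ n → (n : k) ≠ 0) (τ : G → k)
    (hcl : ∀ g h, IsConj g h → τ g = τ h)
    (hsec : ∀ a b, Commute a b → ∀ n : ℕ, b ^ p ^ n = 1 → τ (a * b) = τ a)
    (heig : ∀ a g, ∑ h ∈ Finset.univ.filter (IsConj a), τ (h * g) =
        red (cc (Cfsg.Agent.Lib.Blocks.Third.oneI G) a) * τ g) :
    ∃ c : IrrCharacter G → k, ∀ g, τ g =
      ∑ χ ∈ Finset.univ.filter (· ∈ principalBlock M G), c χ * bar red χ g := by
  obtain ⟨c, hc⟩ := exists_coeffs (p := p) red hM (fun a ha => (hred a).mpr ha) hm τ hcl hsec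
  refine ⟨c, ?_⟩
  let A := Finset.univ.filter (· ∈ principalBlock M G)
  let v : G → k := fun g => τ g - ∑ χ ∈ A, c χ * bar red χ g
  have hv : ∀ g, v g = ∑ χ ∈ Aᶜ, c χ * bar red χ g := by
    intro g
    show τ g - ∑ χ ∈ A, c χ * bar red χ g = _
    rw [hc g, ← Finset.sum_add_sum_compl A (fun χ => c χ * bar red χ g)]
    ring
  have hblock : ∀ χ ∈ A, ∀ a, red (cc χ a) = red (cc (Cfsg.Agent.Lib.Blocks.Third.oneI G) a) := by
    intro χ hχ a
    have h1 : χ ∈ principalBlock M G := (Finset.mem_filter.mp hχ).2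
    rw [Cfsg.Agent.Lib.Blocks.Third.principalBlock_eq_blockOf] at h1
    have h2 := h1 a
    haveI := Cfsg.Agent.Lib.Blocks.Local.isPrime_of_pModular hM
    have h3 : MemLocalIdeal M ((cc (Cfsg.Agent.Lib.Blocks.Third.oneI G) a - cc χ a : AlgInt) : ℂ) := by
      push_cast
      exact h2
    have h4 := (memLocalIdeal_coe_iff (M := M)).mp h3
    have h5 := (hred _).mpr h4
    rw [map_sub, sub_eq_zero] at h5
    exact h5.symm
  have hv0 : v = 0 := by
    refine eq_zero_of_eig red hM hred Aᶜ (fun χ hχ h => ?_) c v hv ?_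
    · rw [Finset.mem_compl] at hχ
      exact hχ (Finset.mem_filter.mpr ⟨Finset.mem_univ _, h⟩)
    · intro a g
      show ∑ h ∈ Finset.univ.filter (IsConj a), (τ (h * g) - ∑ χ ∈ A, c χ * bar red χ (h * g)) =
        _ * (τ g - ∑ χ ∈ A, c χ * bar red χ g)
      rw [Finset.sum_sub_distrib, heig a g, mul_sub]
      congr 1
      rw [Finset.sum_comm, Finset.mul_sum]
      refine Finset.sum_congr rfl fun χ hχ => ?_
      rw [← Finset.mul_sum, sum_bar, hblock χ hχ a]
      ring
  intro g
  have h1 := congrFun hv0 g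
  exact sub_eq_zero.mp h1

end Reduction

end Cfsg.Agent.Lib.ModRep.Span
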