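import Mathlib
import Cfsg.Agent.Lib.ModRep.Ind
import Cfsg.Agent.Lib.ModRep.Density
import Cfsg.Agent.Lib.ModRep.Span
import Cfsg.Agent.Lib.ModRep.Residue
import Cfsg.Agent.Lib.ModRep.Homs
import Cfsg.Agent.Lib.BlockT.Local
import Cfsg.Agent.Lib.Char.Complete

/-!
# The principal block has at least `e` modular constituents (`p ∥ |G|`)

Let `P` be a Sylow subgroup of order `p` of `G`, `e = [N(P) : C(P)]`.  If a finite set `S` of irreducible
characters spans the characters of the principal block over `ℤ` on `p`-regular elements, then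
`e ≤ |S|`.
-/

set_option autoImplicit false
set_option linter.style.haveILetI false
set_option linter.unusedSectionVars false

namespace Cfsg.Agent.Lib.ModRep.Count

open Module MonoidAlgebra Cfsg
open Cfsg.Agent.Lib.ModRep.Tate Cfsg.Agent.Lib.ModRep.Class Cfsg.Agent.Lib.ModRep.Ind
open Cfsg.Agent.Lib.ModRep.Span

universe u v

/-- Summation over left cosets. -/
theorem sum_cosets {N : Type*} [Group N] [Fintype N] (Q : Subgroup N) [Fintype Q] [Fintype (N ⧸ Q)]
    {A : Type*} [AddCommMonoid A] (F : N → A) :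
    ∑ n, F n = ∑ c : N ⧸ Q, ∑ u : Q, F (c.out * u) := by
  classical
  rw [← Finset.sum_fiberwise Finset.univ (fun n : N => (QuotientGroup.mk n : N ⧸ Q)) F]
  refine Finset.sum_congr rfl fun c _ => ?_
  symm
  refine Finset.sum_bij (fun u _ => c.out * (u : N)) ?_ ?_ ?_ ?_
  · intro u _
    rw [Finset.mem_filter]
    refine ⟨Finset.mem_univ _, ?_⟩
    rw [QuotientGroup.mk_mul_of_mem _ u.2]
    exact Quotient.out_eq c
  · intro u _ v _ huv
    exact Subtype.ext (mul_left_cancel huv)
  · intro n hn
    rw [Finset.mem_filter] at hn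
    have h1 : (QuotientGroup.mk c.out : N ⧸ Q) = QuotientGroup.mk n := by
      rw [hn.2]
      exact Quotient.out_eq c
    rw [QuotientGroup.eq] at h1
    exact ⟨⟨_, h1⟩, Finset.mem_univ _, by simp⟩
  · intro u _
    rfl

section Rep

variable {k : Type*} [Field k] {G : Type*} [Group G] [Fintype G] {M : Type*} [AddCommGroup M]
  [Module (MonoidAlgebra k G) M] [Module k M] [IsScalarTower k (MonoidAlgebra k G) M]

theorem trace_lsmul [FiniteDimensional k M] (r : MonoidAlgebra k G) :
    LinearMap.trace k M (Algebra.lsmul k k M r) =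
      ∑ g, r.coeff g * LinearMap.trace k M (repOf k G M g) := by
  classical
  induction r using MonoidAlgebra.induction_on with
  | of g₀ =>
    rw [Finset.sum_eq_single g₀]
    · simp only [of_apply, coeff_single, Finsupp.single_eq_same, one_mul]
      rfl
    · intro g _ hg
      simp [of_apply, coeff_single, Finsupp.single_apply, Ne.symm hg]
    · intro h
      exact absurd (Finset.mem_univ _) h
  | add a b ha hb =>
    rw [map_add, map_add, ha, hb, ← Finset.sum_add_distrib]
    refine Finset.sum_congr rfl fun g _ => ?_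
    rw [coeff_add, Finsupp.add_apply, add_mul]
  | smul c a ha =>
    rw [map_smul, map_smul, ha, smul_eq_mul, Finset.mul_sum]
    refine Finset.sum_congr rfl fun g _ => ?_
    rw [coeff_smul_apply, smul_eq_mul, mul_assoc]

/-- The Tate class is not a norm. -/
theorem ne_norm {p : ℕ} [CharP k p] {P N : Subgroup G} [Fintype P] [Fintype N] (hPN : P ≤ N)
    (μ : N →* kˣ) (hμP : ∀ u (hu : u ∈ P), μ ⟨u, hPN hu⟩ = 1)
    (hidx : ¬ p ∣ (P.subgroupOf N).index) {z : M}
    (hz : ∀ n : N, (single (n : G) (1 : k) : MonoidAlgebra k G) • z = ((μ n : kˣ) : k) • z)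
    (hb : ∀ m : M, (bElt N μ : MonoidAlgebra k G) • m ≠ z) (m : M) :
    ∑ u : P, (single (u : G) (1 : k) : MonoidAlgebra k G) • m ≠ z := by
  classical
  intro hm
  set Q : Subgroup N := P.subgroupOf N with hQ
  letI : Fintype Q := Fintype.ofFinite _
  letI : Fintype (N ⧸ Q) := Fintype.ofFinite _
  have hnorm : ∑ u : Q, (single ((u : N) : G) (1 : k) : MonoidAlgebra k G) • m = z := by
    rw [← hm]
    refine Fintype.sum_bijective (fun u : Q => (⟨((u : N) : G), u.2⟩ : P)) ?_ _ _ ?_
    · constructor
      · intro a b hab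
        apply Subtype.ext
        apply Subtype.ext
        exact congrArg (fun w : P => (w : G)) hab
      · intro v
        exact ⟨⟨⟨v, hPN v.2⟩, v.2⟩, rfl⟩
    · intro u
      rfl
  have hsmul : ∀ (n : G) (c : k) (w : M), (single n c : MonoidAlgebra k G) • w =
      c • ((single n (1 : k) : MonoidAlgebra k G) • w) := by
    intro n c w
    rw [← smul_assoc, smul_single, smul_eq_mul, mul_one]
  have hμQ : ∀ u : Q, μ (u : N) = 1 := fun u => hμP ((u : N) : G) u.2
  have hbm : (bElt N μ : MonoidAlgebra k G) • m = ((Fintype.card (N ⧸ Q) : ℕ) : k) • z := by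
    unfold bElt
    rw [Finset.sum_smul]
    rw [Finset.sum_congr rfl (fun (n : N) _ => hsmul (n : G) ((μ n)⁻¹ : kˣ).val m)]
    rw [sum_cosets Q]
    have h1 : ∀ c : N ⧸ Q, ∑ u : Q, ((μ (c.out * u))⁻¹ : kˣ).val •
        ((single ((c.out * u : N) : G) (1 : k) : MonoidAlgebra k G) • m) = z := by
      intro c
      have h2 : ∀ u : Q, ((μ (c.out * u))⁻¹ : kˣ).val •
          ((single ((c.out * u : N) : G) (1 : k) : MonoidAlgebra k G) • m) =
          ((μ c.out)⁻¹ : kˣ).val • ((single ((c.out : N) : G) (1 : k) : MonoidAlgebra k G) •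
            ((single ((u : N) : G) (1 : k) : MonoidAlgebra k G) • m)) := by
        intro u
        rw [map_mul, hμQ u, mul_one, smul_smul (single ((c.out : N) : G) (1 : k) : MonoidAlgebra k G),
          single_mul_single, one_mul]
        rfl
      simp_rw [h2]
      rw [← Finset.smul_sum, ← Finset.smul_sum, hnorm, hz, smul_smul, ← Units.val_mul, inv_mul_cancel,
        Units.val_one, one_smul]
    simp_rw [h1]
    rw [Finset.sum_const, Finset.card_univ, Nat.cast_smul_eq_nsmul]
  have hcard : ((Fintype.card (N ⧸ Q) : ℕ) : k) ≠ 0 := by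
    intro h
    apply hidx
    rw [CharP.cast_eq_zero_iff k p] at h
    rwa [← Nat.card_eq_fintype_card] at h
  apply hb (((Fintype.card (N ⧸ Q) : ℕ) : k)⁻¹ • m)
  rw [smul_comm, hbm, smul_smul, inv_mul_cancel₀ hcard, one_smul]

end Rep

section Family

variable {k : Type u} [Field k] [IsAlgClosed k] {G : Type v} [Group G] [Fintype G]
  {p : ℕ} [hp : Fact p.Prime] [CharP k p]

/-- The index of `P` is prime to `p`. -/
theorem not_dvd_index {x : G} (hx : orderOf x = p) (hp2 : ¬ p ^ 2 ∣ Nat.card G) :
    ¬ p ∣ (Subgroup.zpowers x).index := by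
  intro h
  apply hp2
  rw [← Subgroup.card_mul_index (Subgroup.zpowers x), Nat.card_zpowers, hx, sq]
  exact Nat.mul_dvd_mul_left p h

/-- The family of Brauer characters attached to the `e` linear characters of `N(P)`. -/
theorem exists_family {x : G} (hx : orderOf x = p) (hp2 : ¬ p ^ 2 ∣ Nat.card G) (e : ℕ)
    (he : (Subgroup.centralizer ((Subgroup.zpowers x : Subgroup G) : Set G)).relIndex
      (Subgroup.normalizer ((Subgroup.zpowers x : Subgroup G) : Set G)) = e) :
    ∃ τ : Fin e → G → k, LinearIndependent k τ ∧ ∀ j,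
      (∀ g h, IsConj g h → τ j g = τ j h) ∧
      (∀ a b, Commute a b → ∀ n : ℕ, b ^ p ^ n = 1 → τ j (a * b) = τ j a) ∧
      (∀ (a g : G) [DecidablePred (IsConj a)], ∑ h ∈ Finset.univ.filter (IsConj a), τ j (h * g) =
        ((Finset.univ.filter (IsConj a)).card : k) * τ j g) := by
  classical
  set P : Subgroup G := Subgroup.zpowers x with hPdef
  set N : Subgroup G := Subgroup.normalizer (P : Set G) with hNdef
  have hPcard : Nat.card P = p := by rw [hPdef, Nat.card_zpowers, hx]
  have hPN : P ≤ N := Subgroup.le_normalizer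
  letI : Fintype P := Fintype.ofFinite _
  letI : Fintype N := Fintype.ofFinite _
  obtain ⟨μ, hμinj, hμC⟩ := Homs.exists_homs (k := k) P hPcard e he
  have hcomm : ∀ u ∈ P, u ∈ Subgroup.centralizer (P : Set G) := by
    intro u hu
    rw [Subgroup.mem_centralizer_iff]
    intro v hv
    obtain ⟨a, rfl⟩ := Subgroup.mem_zpowers_iff.mp hu
    obtain ⟨b, rfl⟩ := Subgroup.mem_zpowers_iff.mp hv
    exact (Commute.refl x).zpow_zpow _ _
  have hμP : ∀ j u (hu : u ∈ P), μ j ⟨u, hPN hu⟩ = 1 := fun j u hu => hμC j _ (hcomm u hu)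
  choose M inst1 inst2 inst3 inst4 hsimple hfd z hzN hznot using
    fun j => Ind.exists_simple_module hPN (μ j) (hμP j) hPcard
  letI := inst1
  letI := inst2
  letI := inst3
  letI := inst4
  haveI := hsimple
  haveI := hfd
  have hidx : ¬ p ∣ (P.subgroupOf N).index := by
    intro h
    apply not_dvd_index hx hp2
    rw [← Subgroup.relIndex_mul_index hPN]
    exact Dvd.dvd.mul_right h _
  have hnorm : ∀ j (m : M j), ∑ u : P, (single (u : G) (1 : k) : MonoidAlgebra k G) • m ≠ z j :=
    fun j m => ne_norm hPN (μ j) (hμP j) hidx (hzN j) (hznot j) m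
  have hnorm' : ∀ j (m : M j), ∑ u : P, repOf k G (M j) (u : G) m =
      ((repOf k G (M j) x - 1) ^ (p - 1)) m := by
    intro j m
    rw [← sum_zpowers_eq (repOf k G (M j)) p hx, LinearMap.sum_apply]
  have hzr : ∀ j, z j ∉ LinearMap.range ((repOf k G (M j) x - 1) ^ (p - 1)) := by
    rintro j ⟨m, hm⟩
    apply hnorm j m
    rw [← hm, ← hnorm' j m]
    rfl
  have hS : ∀ j, Schur (repOf k G (M j)) := fun j => schur_repOf
  have hNeig : ∀ j, ∀ g (hg : g ∈ N), repOf k G (M j) g (z j) = ((μ j ⟨g, hg⟩ : kˣ) : k) • z j :=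
    fun j g hg => hzN j ⟨g, hg⟩
  have hpidx : ¬ p ∣ P.index := not_dvd_index hx hp2
  -- non-isomorphism
  have hne : ∀ i j, i ≠ j → ∀ φ : M i →ₗ[MonoidAlgebra k G] M j, φ = 0 := by
    intro i j hij φ
    by_contra hφ
    apply hij
    have hbij := LinearMap.bijective_of_ne_zero hφ
    apply hμinj
    have hφρ : ∀ g (m : M i), φ (repOf k G (M i) g m) = repOf k G (M j) g (φ m) := by
      intro g m
      exact φ.map_smul _ m
    have hφz : φ (z i) ∉ LinearMap.range ((repOf k G (M j) x - 1) ^ (p - 1)) := by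
      rintro ⟨m, hm⟩
      obtain ⟨m', rfl⟩ := hbij.2 m
      apply hnorm i m'
      apply hbij.1
      rw [← hm, ← hnorm' j, map_sum]
      refine Finset.sum_congr rfl fun u _ => ?_
      exact φ.map_smul _ m'
    have hφk : ∀ (c : k) (m : M i), φ (c • m) = c • φ m := by
      intro c m
      have h1 := φ.map_smul (algebraMap k (MonoidAlgebra k G) c) m
      rw [algebraMap_smul, algebraMap_smul] at h1
      exact h1
    ext n
    have h1 := eigen_unique (repOf k G (M j)) p (hS j) hx hpidx (hzr j) hφz
      (μ := fun g => if h : g ∈ N then ((μ j ⟨g, h⟩ : kˣ) : k) else 0)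
      (μ' := fun g => if h : g ∈ N then ((μ i ⟨g, h⟩ : kˣ) : k) else 0)
      (fun g hg => by
        show _ = (if h : g ∈ N then ((μ j ⟨g, h⟩ : kˣ) : k) else 0) • z j
        rw [dif_pos hg]
        exact hNeig j g hg)
      (fun g hg => by
        show _ = (if h : g ∈ N then ((μ i ⟨g, h⟩ : kˣ) : k) else 0) • φ (z i)
        rw [dif_pos hg, ← hφρ, hNeig i g hg, hφk])
      (n : G) n.2
    have h2 : ((μ j n : kˣ) : k) = ((μ i n : kˣ) : k) := by
      have h3 : ∀ (l : Fin e), (if h : (n : G) ∈ N then ((μ l ⟨(n : G), h⟩ : kˣ) : k) else 0) =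
          ((μ l n : kˣ) : k) := fun l => dif_pos n.2
      rw [← h3 j, ← h3 i]
      exact h1
    exact h2.symm
  let τ : Fin e → G → k := fun j g => LinearMap.trace k (M j) (repOf k G (M j) g)
  refine ⟨τ, ?_, fun j => ⟨?_, ?_, ?_⟩⟩
  · -- linear independence
    rw [Fintype.linearIndependent_iff]
    intro c hc i₀
    obtain ⟨r, hr, hr0⟩ := Density.exists_trace_separate (k := k) (R := MonoidAlgebra k G) (M := M) hne i₀
    have h1 : ∑ j, c j * LinearMap.trace k (M j) (Algebra.lsmul k k (M j) r) = 0 := by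
      simp_rw [trace_lsmul]
      simp_rw [Finset.mul_sum]
      rw [Finset.sum_comm]
      refine Finset.sum_eq_zero fun g _ => ?_
      have h2 := congrFun hc g
      simp only [Finset.sum_apply, Pi.smul_apply, smul_eq_mul, Pi.zero_apply] at h2
      have h3 : ∑ j, c j * (r.coeff g * τ j g) = r.coeff g * ∑ j, c j * τ j g := by
        rw [Finset.mul_sum]
        refine Finset.sum_congr rfl fun j _ => ?_
        ring
      show ∑ j, c j * (r.coeff g * τ j g) = 0
      rw [h3, h2, mul_zero]
    rw [Finset.sum_eq_single i₀] at h1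
    · rw [hr, mul_one] at h1
      exact h1
    · intro j _ hj
      rw [hr0 j hj, mul_zero]
    · intro h
      exact absurd (Finset.mem_univ _) h
  · -- class function
    intro g h hgh
    obtain ⟨c, rfl⟩ := isConj_iff.mp hgh
    show LinearMap.trace k (M j) _ = LinearMap.trace k (M j) _
    have h1 : repOf k G (M j) (c * g * c⁻¹) =
        repOf k G (M j) c * (repOf k G (M j) g * repOf k G (M j) c⁻¹) := by
      rw [map_mul (repOf k G (M j)), map_mul (repOf k G (M j)), mul_assoc]
    rw [h1, LinearMap.trace_mul_comm, mul_assoc, ← map_mul (repOf k G (M j)), inv_mul_cancel,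
      map_one, mul_one]
  · intro a b hab n hb
    exact trace_mul_eq (repOf k G (M j)) p hab hb
  · intro a g _
    apply sum_trace_eq (repOf k G (M j)) a
    apply classSum_eq (repOf k G (M j)) p (hS j) hx _ (hzr j)
    intro c hc
    have hcC : c ∈ Subgroup.centralizer (P : Set G) := by
      rw [Subgroup.mem_centralizer_iff]
      intro v hv
      obtain ⟨b, rfl⟩ := Subgroup.mem_zpowers_iff.mp hv
      exact ((hc.zpow_right b).symm).eq
    have hcN : c ∈ N := Subgroup.centralizer_le_normalizer (P : Set G) hcC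
    rw [hNeig j c hcN, hμC j ⟨c, hcN⟩ hcC]
    simp

end Family

section Main

open Cfsg.Agent.Lib.Blocks.Third

variable {G : Type u} [Group G] [Fintype G] {p : ℕ} [hp : Fact p.Prime] {M : Ideal AlgInt}

open scoped Classical in
/-- **The number of modular constituents of the principal block**: if a finite set `S` of irreducible
characters spans the characters of the principal block over `ℤ` on `p`-regular elements, then
`e ≤ |S|`. -/
theorem card_le [Fintype (IrrCharacter G)] (hM : IsPModular p M) {x : G} (hx : orderOf x = p)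
    (hp2 : ¬ p ^ 2 ∣ Nat.card G) (e : ℕ)
    (he : (Subgroup.centralizer ((Subgroup.zpowers x : Subgroup G) : Set G)).relIndex
      (Subgroup.normalizer ((Subgroup.zpowers x : Subgroup G) : Set G)) = e)
    (S : Finset (IrrCharacter G))
    (hS : ∀ χ ∈ principalBlock M G, ∃ c : IrrCharacter G → ℤ, ∀ g, ¬ p ∣ orderOf g →
      (χ : G → ℂ) g = ∑ ψ ∈ S, (c ψ : ℂ) * (ψ : G → ℂ) g) : e ≤ S.card := by
  haveI hMmax : M.IsMaximal := hM.2.1
  letI : Field (AlgInt ⧸ M) := Ideal.Quotient.field M
  haveI : CharP (AlgInt ⧸ M) p := Cfsg.Agent.Lib.BlockT.Local.charP_residue hM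
  haveI : IsAlgClosed (AlgInt ⧸ M) := Residue.isAlgClosed_residue M
  let red : AlgInt →+* (AlgInt ⧸ M) := Ideal.Quotient.mk M
  have hred : ∀ a, red a = 0 ↔ a ∈ M := fun a => Ideal.Quotient.eq_zero_iff_mem
  have hm : ∀ n : ℕ, ¬ p ∣ n → (n : AlgInt ⧸ M) ≠ 0 := by
    intro n hn h
    exact hn ((CharP.cast_eq_zero_iff (AlgInt ⧸ M) p n).mp h)
  obtain ⟨τ, hli, hτ⟩ := exists_family (k := AlgInt ⧸ M) hx hp2 e he
  -- reductions on regular elements
  have hbar : ∀ χ ∈ principalBlock M G, (bar red χ) ∈
      Submodule.span (AlgInt ⧸ M) ((S.image (bar red) : Finset (G → AlgInt ⧸ M)) : Set (G → AlgInt ⧸ M)) := by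
    intro χ hχ
    obtain ⟨c, hc⟩ := hS χ hχ
    have h1 : bar red χ = ∑ ψ ∈ S, ((c ψ : ℤ) : AlgInt ⧸ M) • bar red ψ := by
      funext g
      obtain ⟨b, a, hab, hcomm, ⟨n, hn⟩, hreg⟩ := Cfsg.Agent.Lib.Blocks.PPart.exists_pPart_y (p := p) g
      have hb : b ^ p ^ n = 1 := by rw [← hn]; exact pow_orderOf_eq_one b
      have hg : ∀ ψ : IrrCharacter G, bar red ψ g = bar red ψ a := by
        intro ψ
        rw [← hab, hcomm.eq]
        exact bar_mul_eq red hM (fun a' ha' => (hred a').mpr ha') ψ hcomm.symm hb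
      rw [Finset.sum_apply, hg χ]
      simp_rw [Pi.smul_apply, hg]
      have h2 : val χ a = ∑ ψ ∈ S, (c ψ : AlgInt) * val ψ a := by
        apply Subtype.ext
        have h3 := hc a hreg
        push_cast
        rw [coe_val, h3]
        refine Finset.sum_congr rfl fun ψ _ => ?_
        rw [coe_val]
      unfold bar
      rw [h2, map_sum]
      refine Finset.sum_congr rfl fun ψ _ => ?_
      rw [map_mul, map_intCast, smul_eq_mul]
    rw [h1]
    refine Submodule.sum_mem _ fun ψ hψ => Submodule.smul_mem _ _ (Submodule.subset_span ?_)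
    exact Finset.mem_coe.mpr (Finset.mem_image_of_mem _ hψ)
  have hτspan : ∀ j, τ j ∈ Submodule.span (AlgInt ⧸ M)
      ((S.image (bar red) : Finset (G → AlgInt ⧸ M)) : Set (G → AlgInt ⧸ M)) := by
    intro j
    obtain ⟨hcl, hsec, heig⟩ := hτ j
    obtain ⟨c, hc⟩ := exists_coeffs_principal (p := p) red hM hred hm (τ j) hcl hsec (by
      intro a g
      rw [heig a g]
      congr 1
      have h1 : red (cc (oneI G) a) =
          red (((Subgroup.centralizer ({a} : Set G)).index : ℕ) : AlgInt) := by
        congr 1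
        apply Subtype.ext
        rw [coe_cc]
        unfold centralChar
        simp
      rw [h1, map_natCast]
      congr 1
      have h2 := Cfsg.Agent.Lib.Char.Complete.card_isConj_mul_card_centralizer (G := G) a
      have h3 := Subgroup.index_mul_card (Subgroup.centralizer ({a} : Set G))
      have h4 : Nat.card (Subgroup.centralizer ({a} : Set G)) ≠ 0 := Nat.card_pos.ne'
      have h5 : Nat.card {x : G // IsConj x a} = (Subgroup.centralizer ({a} : Set G)).index := by
        apply Nat.eq_of_mul_eq_mul_right (Nat.pos_of_ne_zero h4)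
        rw [h2, h3]
      rw [← h5, Nat.card_eq_fintype_card, Fintype.card_subtype]
      congr 1
      ext y
      simp only [Finset.mem_filter, Finset.mem_univ, true_and]
      exact isConj_comm)
    have h1 : τ j = ∑ χ ∈ Finset.univ.filter (· ∈ principalBlock M G), c χ • bar red χ := by
      funext g
      rw [hc g, Finset.sum_apply]
      refine Finset.sum_congr rfl fun χ _ => ?_
      rfl
    rw [h1]
    exact Submodule.sum_mem _ fun χ hχ => Submodule.smul_mem _ _ (hbar χ (Finset.mem_filter.mp hχ).2)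
  have hfin := linearIndependent_le_span' τ hli
    ((S.image (bar red) : Finset (G → AlgInt ⧸ M)) : Set (G → AlgInt ⧸ M)) (by
    rw [Set.le_iff_subset, Set.range_subset_iff]
    exact hτspan)
  rw [Cardinal.mk_fin, Nat.cast_le] at hfin
  have hcard : Fintype.card ((S.image (bar red) : Finset (G → AlgInt ⧸ M)) : Set (G → AlgInt ⧸ M)) =
      (S.image (bar red)).card := by
    simp
  rw [hcard] at hfin
  exact hfin.trans Finset.card_image_le

end Main

end Cfsg.Agent.Lib.ModRep.Count
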