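import Mathlib
import Cfsg.Agent.Lib.ModRep.Count

/-!
# The spanning bound, with denominators prime to `p`
-/

set_option autoImplicit false
set_option linter.style.haveILetI false
set_option linter.unusedSectionVars false

namespace Cfsg.Agent.Lib.ModRep.Count2

open Module MonoidAlgebra Cfsg
open Cfsg.Agent.Lib.ModRep.Tate Cfsg.Agent.Lib.ModRep.Class Cfsg.Agent.Lib.ModRep.Ind
open Cfsg.Agent.Lib.ModRep.Span Cfsg.Agent.Lib.ModRep.Count

universe u v

section Main

open Cfsg.Agent.Lib.Blocks.Third

variable {G : Type u} [Group G] [Fintype G] {p : ℕ} [hp : Fact p.Prime] {M : Ideal AlgInt}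

open scoped Classical in
/-- **The number of modular constituents of the principal block**: if a finite set `S` of irreducible
characters spans the characters of the principal block over `ℤ` on `p`-regular elements, then
`e ≤ |S|`. -/
theorem card_le' [Fintype (IrrCharacter G)] (hM : IsPModular p M) {x : G} (hx : orderOf x = p)
    (hp2 : ¬ p ^ 2 ∣ Nat.card G) (e : ℕ)
    (he : (Subgroup.centralizer ((Subgroup.zpowers x : Subgroup G) : Set G)).relIndex
      (Subgroup.normalizer ((Subgroup.zpowers x : Subgroup G) : Set G)) = e)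
    (S : Finset (IrrCharacter G))
    (hS : ∀ χ ∈ principalBlock M G, ∃ (c : IrrCharacter G → ℤ) (m : ℤ), ¬ (p : ℤ) ∣ m ∧
      ∀ g, ¬ p ∣ orderOf g → (m : ℂ) * (χ : G → ℂ) g = ∑ ψ ∈ S, (c ψ : ℂ) * (ψ : G → ℂ) g) :
    e ≤ S.card := by
  haveI hMmax : M.IsMaximal := hM.2.1
  letI : Field (AlgInt ⧸ M) := Ideal.Quotient.field M
  haveI : CharP (AlgInt ⧸ M) p := Cfsg.Agent.Lib.BlockT.Local.charP_residue hM
  haveI : IsAlgClosed (AlgInt ⧸ M) := Residue.isAlgClosed_residue M
  let red : AlgInt →+* (AlgInt ⧸ M) := Ideal.Quotient.mk M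
  have hred : ∀ a, red a = 0 ↔ a ∈ M := fun a => Ideal.Quotient.eq_zero_iff_mem
  have hm : ∀ n : ℕ, ¬ p ∣ n → (n : AlgInt ⧸ M) ≠ 0 := by
    intro n hn h
    exact hn ((CharP.cast_eq_zero_iff (AlgInt ⧸ M) p n).mp h)
  obtain ⟨τ, hli, hτ⟩ := exists_family (k := AlgInt ⧸ M) hx hp2 e he
  -- reductions on regular elements
  have hbar : ∀ χ ∈ principalBlock M G, (bar red χ) ∈
      Submodule.span (AlgInt ⧸ M) ((S.image (bar red) : Finset (G → AlgInt ⧸ M)) : Set (G → AlgInt ⧸ M)) := by
    intro χ hχ
    obtain ⟨c, m, hmp, hc⟩ := hS χ hχ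
    have hm0 : ((m : ℤ) : AlgInt ⧸ M) ≠ 0 := by
      intro h
      exact hmp ((CharP.intCast_eq_zero_iff (AlgInt ⧸ M) p m).mp h)
    have h1 : bar red χ = ∑ ψ ∈ S, (((m : ℤ) : AlgInt ⧸ M)⁻¹ * ((c ψ : ℤ) : AlgInt ⧸ M)) • bar red ψ := by
      funext g
      obtain ⟨b, a, hab, hcomm, ⟨n, hn⟩, hreg⟩ := Cfsg.Agent.Lib.Blocks.PPart.exists_pPart_y (p := p) g
      have hb : b ^ p ^ n = 1 := by rw [← hn]; exact pow_orderOf_eq_one b
      have hg : ∀ ψ : IrrCharacter G, bar red ψ g = bar red ψ a := by
        intro ψ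
        rw [← hab, hcomm.eq]
        exact bar_mul_eq red hM (fun a' ha' => (hred a').mpr ha') ψ hcomm.symm hb
      rw [Finset.sum_apply, hg χ]
      simp_rw [Pi.smul_apply, hg]
      have h2 : (m : AlgInt) * val χ a = ∑ ψ ∈ S, (c ψ : AlgInt) * val ψ a := by
        apply Subtype.ext
        have h3 := hc a hreg
        push_cast
        rw [coe_val, h3]
        refine Finset.sum_congr rfl fun ψ _ => ?_
        rw [coe_val]
      have h4 := congrArg red h2
      rw [map_mul, map_intCast, map_sum] at h4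
      unfold bar
      have h5 : red (val χ a) = ((m : ℤ) : AlgInt ⧸ M)⁻¹ *
          ∑ ψ ∈ S, red ((c ψ : AlgInt) * val ψ a) := by
        rw [← h4, inv_mul_cancel_left₀ hm0]
      rw [h5, Finset.mul_sum]
      refine Finset.sum_congr rfl fun ψ _ => ?_
      rw [map_mul, map_intCast, smul_eq_mul, mul_assoc]
    rw [h1]
    refine Submodule.sum_mem _ fun ψ hψ => Submodule.smul_mem _ _ (Submodule.subset_span ?_)
    exact Finset.mem_coe.mpr (Finset.mem_image_of_mem _ hψ)
  have hτspan : ∀ j, τ j ∈ Submodule.span (AlgInt ⧸ M)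
      ((S.image (bar red) : Finset (G → AlgInt ⧸ M)) : Set (G → AlgInt ⧸ M)) := by
    intro j
    obtain ⟨hcl, hsec, heig⟩ := hτ j
    obtain ⟨c, hc⟩ := exists_coeffs_principal (p := p) red hM hred hm (τ j) hcl hsec (by
      intro a g
      rw [heig a g]
      congr 1
      have h1 : red (cc (oneI G) a) =
          red (((Subgroup.centralizer ({a} : Set G)).index : ℕ) : AlgInt) := by
        congr 1
        apply Subtype.ext
        rw [coe_cc]
        unfold centralChar
        simp
      rw [h1, map_natCast]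
      congr 1
      have h2 := Cfsg.Agent.Lib.Char.Complete.card_isConj_mul_card_centralizer (G := G) a
      have h3 := Subgroup.index_mul_card (Subgroup.centralizer ({a} : Set G))
      have h4 : Nat.card (Subgroup.centralizer ({a} : Set G)) ≠ 0 := Nat.card_pos.ne'
      have h5 : Nat.card {x : G // IsConj x a} = (Subgroup.centralizer ({a} : Set G)).index := by
        apply Nat.eq_of_mul_eq_mul_right (Nat.pos_of_ne_zero h4)
        rw [h2, h3]
      rw [← h5, Nat.card_eq_fintype_card, Fintype.card_subtype]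
      congr 1
      ext y
      simp only [Finset.mem_filter, Finset.mem_univ, true_and]
      exact isConj_comm)
    have h1 : τ j = ∑ χ ∈ Finset.univ.filter (· ∈ principalBlock M G), c χ • bar red χ := by
      funext g
      rw [hc g, Finset.sum_apply]
      refine Finset.sum_congr rfl fun χ _ => ?_
      rfl
    rw [h1]
    exact Submodule.sum_mem _ fun χ hχ => Submodule.smul_mem _ _ (hbar χ (Finset.mem_filter.mp hχ).2)
  have hfin := linearIndependent_le_span' τ hli
    ((S.image (bar red) : Finset (G → AlgInt ⧸ M)) : Set (G → AlgInt ⧸ M)) (by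
    rw [Set.le_iff_subset, Set.range_subset_iff]
    exact hτspan)
  rw [Cardinal.mk_fin, Nat.cast_le] at hfin
  have hcard : Fintype.card ((S.image (bar red) : Finset (G → AlgInt ⧸ M)) : Set (G → AlgInt ⧸ M)) =
      (S.image (bar red)).card := by
    simp
  rw [hcard] at hfin
  exact hfin.trans Finset.card_image_le

end Main

end Cfsg.Agent.Lib.ModRep.Count2
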