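import Mathlib

/-!
# Sums over free orbits

If a group `U` acts freely on a finite set `X` and `φ : X → A` is equivariant for an additive action
of `U` on `A`, then `∑ c, φ c` is a norm `∑ u, u • a`.
-/

set_option autoImplicit false

namespace Cfsg.Agent.Lib.ModRep.Free

/-- Sum over a free `U`-set of an equivariant function. -/
theorem exists_sum_eq {U X A : Type*} [Group U] [Fintype U] [Fintype X] [MulAction U X]
    [AddCommMonoid A] (act : U → A →+ A) (hfree : ∀ (u : U) (c : X), u • c = c → u = 1)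
    (φ : X → A) (hφ : ∀ u c, φ (u • c) = act u (φ c)) : ∃ a : A, ∑ c, φ c = ∑ u, act u a := by
  classical
  let Ω := MulAction.orbitRel.Quotient U X
  letI : Fintype Ω := Fintype.ofFinite _
  let q : X → Ω := Quotient.mk''
  refine ⟨∑ ω : Ω, φ (Quotient.out ω), ?_⟩
  have h1 : ∑ c, φ c = ∑ ω : Ω, ∑ c ∈ Finset.univ.filter (fun c => q c = ω), φ c :=
    (Finset.sum_fiberwise _ _ _).symm
  simp only [map_sum]
  rw [Finset.sum_comm, h1]
  refine Finset.sum_congr rfl fun ω _ => ?_
  simp_rw [← hφ]
  symm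
  refine Finset.sum_bij (fun u _ => u • Quotient.out ω) ?_ ?_ ?_ ?_
  · intro u _
    rw [Finset.mem_filter]
    refine ⟨Finset.mem_univ _, ?_⟩
    have h2 : q (u • Quotient.out ω) = q (Quotient.out ω) := by
      apply Quotient.sound
      exact ⟨u, rfl⟩
    rw [h2]
    exact Quotient.out_eq ω
  · intro u _ v _ huv
    have h2 : (v⁻¹ * u) • Quotient.out ω = Quotient.out ω := by
      rw [mul_smul, huv, inv_smul_smul]
    have h3 := hfree _ _ h2
    exact (inv_mul_eq_one.mp h3).symm
  · intro c hc
    rw [Finset.mem_filter] at hc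
    have h2 : q c = q (Quotient.out ω) := by
      rw [hc.2]
      exact (Quotient.out_eq ω).symm
    obtain ⟨u, hu⟩ := Quotient.exact h2
    exact ⟨u, Finset.mem_univ _, hu⟩
  · intro u _
    rfl

/-- Variant: the action is free outside a stable subset `F`. -/
theorem exists_sum_filter_eq {U X A : Type*} [Group U] [Fintype U] [Fintype X] [MulAction U X]
    [AddCommMonoid A] (act : U → A →+ A) (F : X → Prop) [DecidablePred F]
    (hF : ∀ (u : U) (c : X), F c → F (u • c))
    (hfree : ∀ (u : U) (c : X), u • c = c → u ≠ 1 → F c)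
    (φ : X → A) (hφ : ∀ u c, φ (u • c) = act u (φ c)) :
    ∃ a : A, ∑ c ∈ Finset.univ.filter (fun c => ¬ F c), φ c = ∑ u, act u a := by
  classical
  have hF' : ∀ (u : U) (c : X), ¬ F c → ¬ F (u • c) := by
    intro u c hc h
    apply hc
    have := hF u⁻¹ _ h
    rwa [inv_smul_smul] at this
  letI : MulAction U {c : X // ¬ F c} :=
    { smul := fun u c => ⟨u • c.1, hF' u c.1 c.2⟩
      one_smul := fun c => Subtype.ext (one_smul U c.1)
      mul_smul := fun u v c => Subtype.ext (mul_smul u v c.1) }
  obtain ⟨a, ha⟩ := exists_sum_eq (X := {c : X // ¬ F c}) act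
    (fun u c h => by
      by_contra hu
      exact c.2 (hfree u c.1 (congrArg Subtype.val h) hu))
    (fun c => φ c.1) (fun u c => hφ u c.1)
  refine ⟨a, ?_⟩
  rw [← ha, Finset.sum_subtype (p := fun c => ¬ F c)]
  intro c
  simp

/-- Variant: `φ` vanishes on the stable subset `F` outside of which the action is free. -/
theorem exists_sum_eq_of_zero {U X A : Type*} [Group U] [Fintype U] [Fintype X] [MulAction U X]
    [AddCommMonoid A] (act : U → A →+ A) (F : X → Prop)
    (hF : ∀ (u : U) (c : X), F c → F (u • c))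
    (hfree : ∀ (u : U) (c : X), u • c = c → u ≠ 1 → F c)
    (φ : X → A) (hφ : ∀ u c, φ (u • c) = act u (φ c)) (h0 : ∀ c, F c → φ c = 0) :
    ∃ a : A, ∑ c, φ c = ∑ u, act u a := by
  classical
  obtain ⟨a, ha⟩ := exists_sum_filter_eq act F hF hfree φ hφ
  refine ⟨a, ?_⟩
  rw [← ha]
  symm
  apply Finset.sum_subset (Finset.filter_subset _ _)
  intro c _ hc
  rw [Finset.mem_filter] at hc
  by_cases h : F c
  · exact h0 c h
  · exact absurd ⟨Finset.mem_univ _, h⟩ hc

end Cfsg.Agent.Lib.ModRep.Free
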