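import Mathlib
import Cfsg.Agent.Lib.Blocks.Cover
import Cfsg.Agent.Lib.Blocks.Heights
import Cfsg.Agent.Lib.Blocks.General
import Cfsg.Agent.Lib.Blocks.Rank1
import Cfsg.Agent.Lib.Blk89.PrinBlock
import Cfsg.Agent.Lib.ElementFusion.Control
import Cfsg.Agent.Lib.OddOrder.PLen
import Cfsg.Agent.Lib.Core.Residual
import Cfsg.Agent.Lib.Char.Complete

/-!
# `p`-length one and the restriction of the principal block to the normalizer of a Sylow subgroup

* `eq_of_sum_ne_zero`: an irreducible character with nonzero sum over a normal subgroup has it in its kernel.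
* `control_of_principal`: if the only member of the principal block with a trivial constituent on a
  Sylow subgroup `S` is the principal character, then `S` controls conjugacy of its elements.
-/

set_option autoImplicit false
set_option linter.style.haveILetI false
set_option linter.unusedSectionVars false

namespace Cfsg.Agent.Lib.ModRep.PLen1

open Cfsg MonoidAlgebra
open Cfsg.Agent.Lib.Blocks.Local Cfsg.Agent.Lib.Blocks.Central
open Cfsg.Agent.Lib.Blocks.General Cfsg.Agent.Lib.Blocks.Third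
open Cfsg.Agent.Lib.Char.Ortho Cfsg.Agent.Lib.Char.Basic Cfsg.Agent.Lib.Char.Complete
open scoped ComplexConjugate

universe u

section A

variable {H : Type u} [Group H] [Fintype H]

/-- An irreducible character with nonzero sum over a normal subgroup has it in its kernel. -/
theorem eq_of_sum_ne_zero (L : Subgroup H) (hL : L.Normal) [Fintype L] (ψ : IrrCharacter H)
    (h : ∑ l : L, (ψ : H → ℂ) l ≠ 0) {n : H} (hn : n ∈ L) : (ψ : H → ℂ) n = (ψ : H → ℂ) 1 := by
  classical
  set z := avgNormal L hL with hz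
  have hψ1 : (ψ : H → ℂ) 1 ≠ 0 := irr_one_ne_zero ψ.2
  have hne : omegaHom ψ z ≠ 0 := by
    rw [omegaHom_apply, lin_apply, hz]
    simp only [coeff_avgNormal]
    rw [Cfsg.Agent.Lib.Blocks.Induced.sum_eq_sum_subgroup L _ (fun g hg => by rw [if_neg hg, zero_mul])]
    have hcardC : (Nat.card L : ℂ) ≠ 0 := Nat.cast_ne_zero.mpr Nat.card_pos.ne'
    have e : ∑ l : L, (if (l : H) ∈ L then (Nat.card L : ℂ)⁻¹ else 0) * (ψ : H → ℂ) l =
        (Nat.card L : ℂ)⁻¹ * ∑ l : L, (ψ : H → ℂ) l := by
      rw [Finset.mul_sum]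
      refine Finset.sum_congr rfl fun l _ => ?_
      rw [if_pos l.2]
    rw [e]
    exact div_ne_zero (mul_ne_zero (inv_ne_zero hcardC) h) hψ1
  have hnz : single n (1 : ℂ) * (z : GA H) = z := by
    ext g
    rw [Cfsg.Agent.Lib.Blocks.General.coeff_single_one_mul, hz, coeff_avgNormal, coeff_avgNormal]
    have : n⁻¹ * g ∈ L ↔ g ∈ L := by
      constructor
      · intro h
        have := L.mul_mem hn h
        simpa using this
      · intro h
        exact L.mul_mem (L.inv_mem hn) h
    simp only [this]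
  have hzn : (z : GA H) * single n (1 : ℂ) = z := by
    rw [← (isCentral_iff_comm (z : GA H)).mp (isCentral_of_mem z)]
    exact hnz
  have h1 := lin_central_mul ψ.2 (isCentral_of_mem z) (single n 1)
  have h2 := lin_central_mul ψ.2 (isCentral_of_mem z) (1 : GA H)
  rw [hzn, lin_single, one_mul] at h1
  rw [mul_one, lin_one] at h2
  have h3 : omega (ψ : H → ℂ) (z : GA H) = omegaHom ψ z := rfl
  rw [h3] at h1 h2
  rw [h2] at h1
  exact (mul_left_cancel₀ hne h1).symm

end A

section Core

variable {G : Type u} [Group G] [Fintype G] {M : Ideal AlgInt} {p : ℕ} [hp : Fact p.Prime]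

/-- Inner product with a function supported at the identity. -/
theorem classInner_of_supp_one {Q : Type u} [Group Q] [Fintype Q] {φ : Q → ℂ}
    (hφ : ∀ q, q ≠ 1 → φ q = 0) (f : Q → ℂ) :
    classInner φ f = (Nat.card Q : ℂ)⁻¹ * (φ 1 * conj (f 1)) := by
  classical
  rw [classInner_def]
  congr 1
  rw [Finset.sum_eq_single (1 : Q)]
  · intro q _ hq
    rw [hφ q hq, zero_mul]
  · simp

theorem isCharacter_irr_res (Q : Subgroup G) (θ : IrrCharacter G) :
    IsCharacter Q (fun q : Q => (θ : G → ℂ) q) :=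
  isCharacter_restrict Q (isCharacter_of_isIrrCharacter θ.2)

/-- The heart: if only the principal character of the principal block has a trivial constituent on the
Sylow subgroup `S`, then `S` controls conjugacy of its elements. -/
theorem control_of_principal (hM : IsPModular p M) (S : Sylow p G) [Fintype (S : Subgroup G)]
    (hS : ∀ θ ∈ principalBlock M G, ∑ x : (S : Subgroup G), (θ : G → ℂ) x ≠ 0 → θ = oneI G) :
    ∀ x ∈ (S : Subgroup G), ∀ y ∈ (S : Subgroup G), (∃ g : G, g * x * g⁻¹ = y) →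
      ∃ u ∈ (S : Subgroup G), u * x * u⁻¹ = y := by
  classical
  haveI := isPrime_of_pModular hM
  haveI := finite_irrCharacter (G := G)
  letI := Fintype.ofFinite (IrrCharacter G)
  set Q : Subgroup G := (S : Subgroup G) with hQ
  haveI := finite_irrCharacter (G := Q)
  letI := Fintype.ofFinite (IrrCharacter Q)
  set B := principalBlock M G with hB
  set A : Finset (IrrCharacter G) := Finset.univ.filter (· ∈ B) with hA
  have hmemA : ∀ θ, θ ∈ A ↔ θ ∈ B := fun θ => by simp [hA]
  have hcardQ : (Nat.card Q : ℂ) ≠ 0 := Nat.cast_ne_zero.mpr Nat.card_pos.ne'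
  have hone : oneI G ∈ A := by
    rw [hmemA, hB, principalBlock_eq_blockOf]
    exact Cfsg.Agent.Lib.Blocks.Central.mem_blockOf_self _
  -- degrees
  let dn : IrrCharacter G → ℕ := fun θ => charDegree (θ : G → ℂ)
  have hdn : ∀ θ : IrrCharacter G, (θ : G → ℂ) 1 = (dn θ : ℂ) := fun θ =>
    Cfsg.Agent.Lib.Blocks.Heights.irr_one_eq θ
  have hdnpos : ∀ θ, 0 < dn θ := by
    intro θ
    rw [Nat.pos_iff_ne_zero]
    intro h0
    have := hdn θ
    rw [h0] at this
    exact irr_one_ne_zero θ.2 (by simpa using this)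
  -- vanishing
  have hvan : ∀ q : Q, q ≠ 1 → ∑ θ ∈ A, (dn θ : ℂ) * (θ : G → ℂ) q = 0 := by
    intro q hq1
    have hq1' : (q : G) ≠ 1 := fun h => hq1 (Subtype.ext h)
    obtain ⟨k, hk⟩ := (IsPGroup.iff_orderOf.mp S.isPGroup') q
    have hw : ∃ k : ℕ, orderOf (q : G) = p ^ k := ⟨k, by rw [Subgroup.orderOf_coe, hk]⟩
    have hpp : IsPPart p (q : G) (q : G) :=
      ⟨1, mul_one _, Commute.one_right _, hw, by simpa using hp.out.ne_one⟩
    have hpp1 : IsPPart p (1 : G) 1 :=
      ⟨1, mul_one 1, Commute.one_right 1, ⟨0, by simp⟩, by simpa using hp.out.ne_one⟩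
    have hn : ¬ IsConj (q : G) (1 : G) := fun h => hq1' (isConj_one_right.mp h.symm)
    have h := Cfsg.Agent.Lib.Blocks.Heights.block_orthogonality_section hM hpp hpp1 hn
      (isPBlock_principal (G := G) M)
    rw [Cfsg.Agent.Lib.Blocks.Rank1.finsum_mem_eq_sum_ite'] at h
    rw [hA, Finset.sum_filter]
    refine (Fintype.sum_congr _ _ fun θ => ?_).trans h
    split_ifs
    · rw [inv_one, hdn, mul_comm]
    · rfl
  -- the regular character
  let res : IrrCharacter G → Q → ℂ := fun θ q => (θ : G → ℂ) q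
  have hresc : ∀ θ, IsCharacter Q (res θ) := fun θ => isCharacter_irr_res Q θ
  let Φ : Q → ℂ := ∑ θ ∈ A, (dn θ : ℂ) • res θ
  have hΦ : ∀ q : Q, Φ q = ∑ θ ∈ A, (dn θ : ℂ) * (θ : G → ℂ) q := by
    intro q
    simp only [Φ, Finset.sum_apply, Pi.smul_apply, smul_eq_mul]
    rfl
  have hΦ0 : ∀ q : Q, q ≠ 1 → Φ q = 0 := fun q hq => by rw [hΦ, hvan q hq]
  set D : ℕ := ∑ θ ∈ A, dn θ * dn θ with hD
  have hΦ1 : Φ 1 = (D : ℂ) := by
    rw [hΦ, hD, Nat.cast_sum]
    refine Finset.sum_congr rfl fun θ _ => ?_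
    push_cast
    rw [hdn]
  have hinner : ∀ f : Q → ℂ, classInner Φ f = (Nat.card Q : ℂ)⁻¹ * ((D : ℂ) * conj (f 1)) := by
    intro f
    rw [classInner_of_supp_one hΦ0, hΦ1]
  have hinner2 : ∀ f : Q → ℂ, classInner Φ f = ∑ θ ∈ A, (dn θ : ℂ) * classInner (res θ) f := by
    intro f
    simp only [Φ]
    rw [classInner_sum_left]
    refine Finset.sum_congr rfl fun θ _ => ?_
    rw [classInner_smul_left]
  -- `D = |Q|`
  have hres1 : ∀ θ ∈ A, θ ≠ oneI G → classInner (res θ) (fun _ => 1) = 0 := by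
    intro θ hθ hne
    rw [classInner_def]
    have h0 : ∑ x : Q, (θ : G → ℂ) x = 0 := by
      by_contra h
      exact hne (hS θ ((hmemA θ).mp hθ) (fun h' => h (by convert h')))
    simp only [map_one, mul_one, res]
    rw [h0, mul_zero]
  have hresone : classInner (res (oneI G)) (fun _ => 1) = 1 := by
    rw [classInner_def]
    simp only [map_one, mul_one, res, oneI_apply]
    rw [Finset.sum_const, Finset.card_univ, nsmul_eq_mul, mul_one, ← Nat.card_eq_fintype_card]
    exact inv_mul_cancel₀ hcardQ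
  have hDQ : (D : ℂ) = (Nat.card Q : ℂ) := by
    have h1 := hinner (fun _ => 1)
    rw [hinner2, Finset.sum_eq_single (oneI G) (fun θ hθ hne => by rw [hres1 θ hθ hne, mul_zero])
      (fun h => absurd hone h), hresone, mul_one] at h1
    have h2 : (dn (oneI G) : ℂ) = 1 := by
      rw [← hdn]
      rfl
    rw [h2] at h1
    simp only [map_one, mul_one] at h1
    field_simp at h1
    exact h1.symm
  -- inner products
  have hn : ∀ θ θ' : IrrCharacter G, ∃ n : ℕ, classInner (res θ) (res θ') = n := fun θ θ' =>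
    exists_nat_classInner (hresc θ) (hresc θ')
  choose n hn using hn
  have hself : ∀ θ, 1 ≤ n θ θ := by
    intro θ
    rw [Nat.one_le_iff_ne_zero]
    intro h0
    have h1 := hn θ θ
    rw [h0, Nat.cast_zero, classInner_self_eq_zero_iff] at h1
    have h2 := congrFun h1 1
    have h3 : res θ 1 = (θ : G → ℂ) 1 := rfl
    rw [h3] at h2
    exact irr_one_ne_zero θ.2 h2
  have hsum : ∑ θ ∈ A, ∑ θ' ∈ A, dn θ * dn θ' * n θ θ' = ∑ θ ∈ A, dn θ * dn θ := by
    have h1 := hinner Φ
    have h2 : conj (Φ 1) = (D : ℂ) := by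
      rw [hΦ1]
      simp
    rw [h2, hDQ, inv_mul_cancel_left₀ hcardQ] at h1
    rw [hinner2] at h1
    have h3 : ∀ θ ∈ A, (dn θ : ℂ) * classInner (res θ) Φ =
        ((∑ θ' ∈ A, dn θ * dn θ' * n θ θ' : ℕ) : ℂ) := by
      intro θ _
      have h4 : classInner (res θ) Φ = ∑ θ' ∈ A, (dn θ' : ℂ) * (n θ θ' : ℂ) := by
        simp only [Φ]
        rw [classInner_sum_right]
        refine Finset.sum_congr rfl fun θ' _ => ?_
        rw [classInner_smul_right, hn]
        simp
      rw [h4, Finset.mul_sum]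
      push_cast
      refine Finset.sum_congr rfl fun θ' _ => ?_
      ring
    rw [Finset.sum_congr rfl h3, ← Nat.cast_sum, hDQ.symm] at h1
    exact_mod_cast h1
  have hle : ∀ θ ∈ A, dn θ * dn θ ≤ ∑ θ' ∈ A, dn θ * dn θ' * n θ θ' := by
    intro θ hθ
    calc dn θ * dn θ ≤ dn θ * dn θ * n θ θ := Nat.le_mul_of_pos_right _ (hself θ)
      _ ≤ _ := Finset.single_le_sum (f := fun θ' => dn θ * dn θ' * n θ θ')
        (fun _ _ => Nat.zero_le _) hθ
  have heq := (Finset.sum_eq_sum_iff_of_le hle).mp hsum.symm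
  have hsplit : ∀ θ ∈ A, ∀ θ' ∈ A, θ' ≠ θ → n θ θ' = 0 := by
    intro θ hθ θ' hθ' hne
    by_contra h0
    have h1 := heq θ hθ
    have h2 : dn θ * dn θ * n θ θ + dn θ * dn θ' * n θ θ' ≤ ∑ θ'' ∈ A, dn θ * dn θ'' * n θ θ'' := by
      have := Finset.add_le_sum (f := fun θ'' => dn θ * dn θ'' * n θ θ'')
        (fun _ _ => Nat.zero_le _) hθ hθ' hne.symm
      exact this
    have h3 : 0 < dn θ * dn θ' * n θ θ' :=
      Nat.mul_pos (Nat.mul_pos (hdnpos θ) (hdnpos θ')) (Nat.pos_of_ne_zero h0)
    have h4 : dn θ * dn θ ≤ dn θ * dn θ * n θ θ := Nat.le_mul_of_pos_right _ (hself θ)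
    omega
  have hnself : ∀ θ ∈ A, n θ θ = 1 := by
    intro θ hθ
    have h1 := heq θ hθ
    have h2 : dn θ * dn θ * n θ θ ≤ ∑ θ'' ∈ A, dn θ * dn θ'' * n θ θ'' :=
      Finset.single_le_sum (f := fun θ'' => dn θ * dn θ'' * n θ θ'') (fun _ _ => Nat.zero_le _) hθ
    have h3 : dn θ * dn θ * n θ θ ≤ dn θ * dn θ * 1 := by omega
    have h4 := Nat.le_of_mul_le_mul_left h3 (Nat.mul_pos (hdnpos θ) (hdnpos θ))
    exact le_antisymm h4 (hself θ)
  have hirr : ∀ θ ∈ A, IsIrrCharacter Q (res θ) := by
    intro θ hθ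
    apply isIrrCharacter_of_classInner_self_eq_one (hresc θ)
    rw [hn, hnself θ hθ, Nat.cast_one]
  -- the bijection
  have hbij : ∀ x y : Q, ∑ θ ∈ A, (θ : G → ℂ) x * conj ((θ : G → ℂ) y) =
      ∑ ζ : IrrCharacter Q, (ζ : Q → ℂ) x * conj ((ζ : Q → ℂ) y) := by
    intro x y
    refine Finset.sum_bij (fun θ hθ => (⟨res θ, hirr θ hθ⟩ : IrrCharacter Q)) (fun _ _ => Finset.mem_univ _)
      ?_ ?_ ?_
    · intro θ hθ θ' hθ' he
      by_contra hne
      have h1 : res θ = res θ' := congrArg Subtype.val he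
      have h2 := hn θ θ'
      rw [← h1, hn θ θ, hnself θ hθ, hsplit θ hθ θ' hθ' (Ne.symm hne)] at h2
      simp at h2
    · intro ζ _
      have h1 : classInner Φ (ζ : Q → ℂ) ≠ 0 := by
        rw [hinner, hDQ]
        rw [inv_mul_cancel_left₀ hcardQ]
        simpa using irr_one_ne_zero ζ.2
      rw [hinner2] at h1
      obtain ⟨θ, hθ, h2⟩ := Finset.exists_ne_zero_of_sum_ne_zero h1
      have h3 : classInner (res θ) (ζ : Q → ℂ) ≠ 0 := right_ne_zero_of_mul h2
      rw [classInner_irr (hirr θ hθ) ζ.2] at h3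
      have h4 : res θ = (ζ : Q → ℂ) := by
        by_contra h5
        exact h3 (if_neg h5)
      exact ⟨θ, hθ, Subtype.ext h4⟩
    · intro θ hθ
      rfl
  -- conclusion
  rintro x hx y hy ⟨g, hg⟩
  set x' : Q := ⟨x, hx⟩ with hx'
  set y' : Q := ⟨y, hy⟩ with hy'
  have h1 := hbij x' y'
  have h2 := hbij x' x'
  have h3 : ∑ θ ∈ A, (θ : G → ℂ) x' * conj ((θ : G → ℂ) y') =
      ∑ θ ∈ A, (θ : G → ℂ) x' * conj ((θ : G → ℂ) x') := by
    refine Finset.sum_congr rfl fun θ _ => ?_
    have h4 : (θ : G → ℂ) y = (θ : G → ℂ) x := by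
      rw [← hg]
      exact isClassFunction_of_isIrrCharacter θ.2 x g
    change (θ : G → ℂ) x * conj ((θ : G → ℂ) y) = (θ : G → ℂ) x * conj ((θ : G → ℂ) x)
    rw [h4]
  rw [h3, h2, sum_irr_mul_conj, sum_irr_mul_conj, if_pos (IsConj.refl _)] at h1
  have h5 : IsConj x' y' := by
    by_contra h6
    rw [if_neg h6] at h1
    exact (Nat.cast_ne_zero.mpr (Nat.card_pos.ne')) h1
  obtain ⟨c, hc⟩ := isConj_iff.mp h5
  refine ⟨c, c.2, ?_⟩
  exact congrArg Subtype.val hc

end Core

section Main

open Cfsg.Agent.Lib.Core.Basic Cfsg.Agent.Lib.Core.Series Cfsg.Agent.Lib.Core.Residual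
open Cfsg.Agent.Lib.OddOrder.PLen Cfsg.Agent.Lib.Transfer.Basic
open scoped Pointwise

variable {G : Type u} [Group G] [Finite G] {M : Ideal AlgInt} {p : ℕ} [hp : Fact p.Prime]

/-- `p`-length one gives irreducible restrictions. -/
theorem forward (hM : IsPModular p M) (P : Sylow p G) (h : PLengthLE p 1 G) {χ : IrrCharacter G}
    (hχ : χ ∈ principalBlock M G) :
    IsIrrCharacter (Subgroup.normalizer ((P : Subgroup G) : Set G))
      (fun n : (Subgroup.normalizer ((P : Subgroup G) : Set G)) => (χ : G → ℂ) n) := by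
  classical
  set N := Subgroup.normalizer ((P : Subgroup G) : Set G) with hN
  set K := pPrimeCore p G with hK
  set Z := pPrimePCore p G with hZ
  have hZn : Z.Normal := by
    rw [hZ, pPrimePCore]
    exact Subgroup.Normal.comap inferInstance _
  have hPZ : (P : Subgroup G) ≤ Z := le_pPrimePCore_of_pLengthLE h P.isPGroup'
  let π := QuotientGroup.mk' K
  have hπ : Function.Surjective π := QuotientGroup.mk'_surjective _
  -- Frattini
  have hfr : N ⊔ Z = ⊤ := by
    have h1 := Sylow.normalizer_sup_eq_top (p := p) (N := Z) (P.subtype hPZ)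
    have h2 : (((P.subtype hPZ : Sylow p Z) : Subgroup Z).map Z.subtype) = (P : Subgroup G) := by
      rw [Sylow.coe_subtype, Subgroup.subgroupOf_map_subtype]
      exact inf_eq_left.mpr hPZ
    rw [h2] at h1
    exact h1
  have hsurj : Function.Surjective (π.comp N.subtype) := by
    intro q
    obtain ⟨g, rfl⟩ := hπ q
    have hg : g ∈ N ⊔ Z := by
      rw [hfr]
      trivial
    haveI := hZn
    have hg' : g ∈ (N : Set G) * (Z : Set G) := by
      rw [← Subgroup.mul_normal]
      exact hg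
    obtain ⟨n, hn, z, hz, rfl⟩ := Set.mem_mul.mp hg'
    -- `z` is congruent to an element of `P`
    have hzq : π z ∈ pCore p (G ⧸ K) := hz
    have hle := pCore_le_sylow (p := p) (G := G ⧸ K) (P.mapSurjective hπ) hzq
    rw [Sylow.coe_mapSurjective] at hle
    obtain ⟨x, hx, hxz⟩ := hle
    refine ⟨⟨n * x, N.mul_mem hn (Subgroup.le_normalizer hx)⟩, ?_⟩
    simp only [MonoidHom.comp_apply, Subgroup.subtype_apply, map_mul]
    rw [hxz]
  obtain ⟨φ, hφ⟩ := Cfsg.Agent.Lib.Blk89.PrinBlock.exists_inflate_of_trivial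
    (Cfsg.Agent.Lib.Blk89.PrinBlock.trivial_of_mem_principal hM hχ)
  have h3 := Cfsg.Agent.Lib.Char.Linear.isIrrCharacter_comp (π.comp N.subtype) hsurj φ.2
  convert h3 using 1
  funext n
  rw [← hφ]
  rfl

/-- Irreducible restrictions give `p`-length one. -/
theorem backward (hM : IsPModular p M) (P : Sylow p G)
    (hI : ∀ χ ∈ principalBlock M G, IsIrrCharacter (Subgroup.normalizer ((P : Subgroup G) : Set G))
      (fun n : (Subgroup.normalizer ((P : Subgroup G) : Set G)) => (χ : G → ℂ) n)) :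
    PLengthLE p 1 G := by
  classical
  cases nonempty_fintype G
  haveI := isPrime_of_pModular hM
  haveI := finite_irrCharacter (G := G)
  letI := Fintype.ofFinite (IrrCharacter G)
  set N := Subgroup.normalizer ((P : Subgroup G) : Set G) with hN
  set W := Subgroup.normalClosure ((P : Subgroup G) : Set G) with hW
  haveI hWn : W.Normal := Subgroup.normalClosure_normal
  have hPW : (P : Subgroup G) ≤ W := Subgroup.subset_normalClosure
  letI : Fintype W := Fintype.ofFinite _
  haveI := finite_irrCharacter (G := W)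
  letI := Fintype.ofFinite (IrrCharacter W)
  let S : Sylow p W := P.subtype hPW
  letI : Fintype (S : Subgroup W) := Fintype.ofFinite _
  letI : Fintype (P : Subgroup G) := Fintype.ofFinite _
  -- reindexing
  let e : (S : Subgroup W) ≃ (P : Subgroup G) :=
    { toFun := fun x => ⟨((x : W) : G), by
        have h0 : ((S : Sylow p W) : Subgroup W) = (P : Subgroup G).subgroupOf W := Sylow.coe_subtype ..
        exact Subgroup.mem_subgroupOf.mp (h0.le x.2)⟩
      invFun := fun x => ⟨⟨x, hPW x.2⟩, by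
        have h0 : ((S : Sylow p W) : Subgroup W) = (P : Subgroup G).subgroupOf W := Sylow.coe_subtype ..
        exact h0.ge (Subgroup.mem_subgroupOf.mpr x.2)⟩
      left_inv := fun x => rfl
      right_inv := fun x => rfl }
  have hsumS : ∀ f : G → ℂ, ∑ x : (S : Subgroup W), f ((x : W) : G) = ∑ x : (P : Subgroup G), f x :=
    fun f => Fintype.sum_equiv e _ _ (fun x => rfl)
  -- the kernel criterion
  have hF1 : ∀ χ ∈ principalBlock M G, ∑ x : (P : Subgroup G), (χ : G → ℂ) x ≠ 0 →
      ∀ x ∈ (P : Subgroup G), (χ : G → ℂ) x = (χ : G → ℂ) 1 := by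
    intro χ hχ hne x hx
    letI : Fintype N := Fintype.ofFinite _
    let ψ : IrrCharacter N := ⟨_, hI χ hχ⟩
    let L : Subgroup N := (P : Subgroup G).subgroupOf N
    haveI hLn : L.Normal := Subgroup.normal_in_normalizer
    letI : Fintype L := Fintype.ofFinite _
    have hPN : (P : Subgroup G) ≤ N := Subgroup.le_normalizer
    let e2 : L ≃ (P : Subgroup G) :=
      { toFun := fun l => ⟨((l : N) : G), Subgroup.mem_subgroupOf.mp l.2⟩
        invFun := fun x => ⟨⟨x, hPN x.2⟩, Subgroup.mem_subgroupOf.mpr x.2⟩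
        left_inv := fun x => rfl
        right_inv := fun x => rfl }
    have h1 : ∑ l : L, (ψ : N → ℂ) l = ∑ x : (P : Subgroup G), (χ : G → ℂ) x :=
      Fintype.sum_equiv e2 _ _ (fun x => rfl)
    have h2 := eq_of_sum_ne_zero L hLn ψ (by rw [h1]; exact hne)
      (n := ⟨x, hPN hx⟩) (Subgroup.mem_subgroupOf.mpr hx)
    exact h2
  -- the hypothesis on the Sylow subgroup of `W`
  have hS : ∀ θ ∈ principalBlock M W, ∑ x : (S : Subgroup W), (θ : W → ℂ) x ≠ 0 → θ = oneI W := by
    intro θ hθ hne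
    have hone1 : oneI W ∈ principalBlock M W := by
      rw [principalBlock_eq_blockOf]
      exact Cfsg.Agent.Lib.Blocks.Central.mem_blockOf_self _
    have hone2 : oneI G ∈ principalBlock M G := by
      rw [principalBlock_eq_blockOf]
      exact Cfsg.Agent.Lib.Blocks.Central.mem_blockOf_self _
    have hcov : ∃ χ ∈ principalBlock M G, ∃ θ' ∈ principalBlock M W,
        classInner (fun n : W => (χ : G → ℂ) n) (θ' : W → ℂ) ≠ 0 := by
      refine ⟨oneI G, hone2, oneI W, hone1, ?_⟩
      have h1 : (fun n : W => ((oneI G : IrrCharacter G) : G → ℂ) n) = ((oneI W : IrrCharacter W) : W → ℂ) := rfl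
      rw [h1, classInner_self_of_isIrr (oneI W).2]
      exact one_ne_zero
    obtain ⟨χ, hχ, hin⟩ := Cfsg.Agent.Lib.Blocks.Cover.exists_constituent_of_covers
      (isPBlock_principal (G := G) M) (isPBlock_principal (G := W) M) hcov hθ
    -- `χ` has a trivial constituent on `P`
    have hχc : IsCharacter W (fun n : W => (χ : G → ℂ) n) :=
      isCharacter_restrict W (isCharacter_of_isIrrCharacter χ.2)
    obtain ⟨m, hm⟩ := exists_nat_combination hχc
    have hmθ : classInner (fun n : W => (χ : G → ℂ) n) (θ : W → ℂ) = m θ := by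
      rw [hm, classInner_of_nat_combination]
    have hmne : m θ ≠ 0 := by
      intro h0
      rw [hmθ, h0] at hin
      simp at hin
    have hcardS : (Nat.card (S : Subgroup W) : ℂ) ≠ 0 := Nat.cast_ne_zero.mpr Nat.card_pos.ne'
    have hnat : ∀ τ : IrrCharacter W, ∃ c : ℕ, ∑ x : (S : Subgroup W), (τ : W → ℂ) x =
        (Nat.card (S : Subgroup W) : ℂ) * c := by
      intro τ
      have h1 : IsCharacter (S : Subgroup W) (fun x : (S : Subgroup W) => (τ : W → ℂ) x) :=
        isCharacter_restrict _ (isCharacter_of_isIrrCharacter τ.2)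
      have h2 : IsCharacter (S : Subgroup W) (fun _ => (1 : ℂ)) :=
        isCharacter_of_isIrrCharacter (oneI (S : Subgroup W)).2
      obtain ⟨c, hc⟩ := exists_nat_classInner h1 h2
      refine ⟨c, ?_⟩
      rw [classInner_def] at hc
      simp only [map_one, mul_one] at hc
      rw [← hc]
      field_simp
    choose c hc using hnat
    have hcθ : c θ ≠ 0 := by
      intro h0
      rw [hc, h0] at hne
      simp at hne
    have hsumχ : ∑ x : (P : Subgroup G), (χ : G → ℂ) x =
        (Nat.card (S : Subgroup W) : ℂ) * ((∑ τ, m τ * c τ : ℕ) : ℂ) := by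
      rw [← hsumS]
      have h1 : ∀ x : (S : Subgroup W), (χ : G → ℂ) ((x : W) : G) =
          ∑ τ : IrrCharacter W, (m τ : ℂ) * (τ : W → ℂ) x := by
        intro x
        have h2 := congrFun hm (x : W)
        simp only [Finset.sum_apply, nsmul_eq_mul] at h2
        exact h2
      rw [Fintype.sum_congr _ _ h1, Finset.sum_comm]
      push_cast
      rw [Finset.mul_sum]
      refine Fintype.sum_congr _ _ fun τ => ?_
      rw [← Finset.mul_sum, hc]
      ring
    have hne2 : ∑ x : (P : Subgroup G), (χ : G → ℂ) x ≠ 0 := by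
      rw [hsumχ]
      refine mul_ne_zero hcardS ?_
      rw [Nat.cast_ne_zero]
      intro h0
      have h1 := (Finset.sum_eq_zero_iff.mp h0) θ (Finset.mem_univ _)
      exact (mul_ne_zero hmne hcθ) h1
    have hker := hF1 χ hχ hne2
    -- so `W` is in the kernel of `χ`
    have hχc' := isCharacter_of_isIrrCharacter χ.2
    have hWker : W ≤ Cfsg.Agent.Lib.Char.Degree.charKer hχc' := by
      apply Subgroup.normalClosure_le_normal
      intro x hx
      exact hker x hx
    have h5 : (fun n : W => (χ : G → ℂ) n) = ((χ : G → ℂ) 1) • ((oneI W : IrrCharacter W) : W → ℂ) := by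
      funext n
      have h6 : (χ : G → ℂ) n = (χ : G → ℂ) 1 := hWker n.2
      simp [h6]
    rw [h5, classInner_smul_left, classInner_irr (oneI W).2 θ.2] at hin
    by_contra hne3
    apply hin
    rw [if_neg, mul_zero]
    intro h7
    exact hne3 (Subtype.ext h7.symm)
  have hctrl := control_of_principal hM S hS
  have hcomp : HasNormalPComplement p W :=
    Cfsg.Agent.Lib.ElementFusion.Control.hasNormalPComplement_of_control S hctrl
  -- the `p`-complement of `W` lies in `O_{p'}(G)`
  let Y : Subgroup W := pResidual p W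
  have hYn : (Y.map W.subtype).Normal := ConjAct.normal_of_characteristic_of_normal
  have hYc : (Nat.card (Y.map W.subtype)).Coprime p := by
    rw [Subgroup.card_map_of_injective W.subtype_injective]
    exact hasNormalPComplement_iff_pResidual.mp hcomp
  have hYle : Y.map W.subtype ≤ pPrimeCore p G := le_pPrimeCore hYn hYc
  have hWle : W ≤ pPrimePCore p G := by
    apply le_pPrimePCore hWn
    intro x hx
    have hq : IsPGroup p (W ⧸ Y) := isPGroup_quotient_pResidual
    obtain ⟨k, hk⟩ := hq (QuotientGroup.mk (⟨x, hx⟩ : W))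
    have hmem : (⟨x, hx⟩ : W) ^ p ^ k ∈ Y := by
      rw [← QuotientGroup.eq_one_iff, QuotientGroup.mk_pow]
      exact hk
    exact ⟨k, hYle ⟨_, hmem, by simp⟩⟩
  exact pLengthLE_one_of_sylow_le P (hPW.trans hWle)

end Main

end Cfsg.Agent.Lib.ModRep.PLen1
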