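import Cfsg.Agent.Lib.ModRep.Count2
import Cfsg.Agent.Lib.ModRep.Princ
import Cfsg.Agent.Lib.ModRep.Numerics2

/-!
# The structure of the principal block when the Sylow subgroup has prime order
-/

set_option autoImplicit false
set_option linter.style.haveILetI false

namespace Cfsg.Agent.Lib.ModRep.Princ2

open Cfsg
open Cfsg.Agent.Lib.ExcP.Gram Cfsg.Agent.Lib.ExcP.Inst Cfsg.Agent.Lib.ModRep.Numerics2
open scoped ComplexConjugate

universe u

variable {G : Type u} [Group G] [Fintype G] {p : ℕ} [hp : Fact p.Prime] {P : Subgroup G}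
  {M : Ideal AlgInt}

/-- **The structure theorem for the principal block.** -/
theorem structure_principal [Fintype (Cn P)] [Fintype (Nn P)] [Fintype (DD P p)]
    [Fintype (IrrCharacter G)] (hM : IsPModular p M) (hP : Nat.card P = p)
    (hp2 : ¬ p ^ 2 ∣ Nat.card G) (e : ℕ)
    (he : (Subgroup.centralizer (P : Set G)).relIndex (Subgroup.normalizer (P : Set G)) = e) :
    Concl (rr P p) (fun d : DD P p => Th P d.1) e p (principalBlock M G) 1 := by
  classical
  haveI := Cfsg.Agent.Lib.Blocks.Local.isPrime_of_pModular hM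
  letI : Fintype P := Fintype.ofFinite _
  have hN : Nat.card (Nn P) = e * Nat.card (Cn P) := by
    have hle : Cn P ≤ Nn P := Subgroup.centralizer_le_normalizer _
    have h1 := Subgroup.card_mul_index ((Cn P).subgroupOf (Nn P))
    have h2 : Nat.card ((Cn P).subgroupOf (Nn P)) = Nat.card (Cn P) :=
      Nat.card_congr (Subgroup.subgroupOfEquivOfLe hle).toEquiv
    rw [h2] at h1
    rw [← h1, ← he, mul_comm]
    rfl
  -- a generator
  obtain ⟨x, hxP, hx1⟩ : ∃ x ∈ P, x ≠ 1 := by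
    have h1 : P ≠ ⊥ := by
      rintro rfl
      rw [Subgroup.card_bot] at hP
      exact hp.out.one_lt.ne hP
    obtain ⟨x, hx⟩ := Subgroup.ne_bot_iff_exists_ne_one.mp h1
    exact ⟨x.1, x.2, fun h => hx (Subtype.ext h)⟩
  have hPx : P = Subgroup.zpowers x := eq_zpowers_of_mem hP hxP hx1
  have hx : orderOf x = p := by
    rw [← Nat.card_zpowers, ← hPx, hP]
  have he' : (Subgroup.centralizer ((Subgroup.zpowers x : Subgroup G) : Set G)).relIndex
      (Subgroup.normalizer ((Subgroup.zpowers x : Subgroup G) : Set G)) = e := by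
    rw [← hPx]
    exact he
  refine structure_thm (rr P p) (fun d => Th P d.1) e p hp.out (fun d => isGen_Th _)
    (fun d => Th_one _) (gram_same hP hp2 hN) (gram_diff hP hp2 hN)
    (card_class hP hp2 hN) ?_ (principalBlock M G)
    (fun g => ¬ p ∣ orderOf g) 1 ?_ ?_ ?_ ?_
  · rw [← Nat.card_eq_fintype_card, card_DD hP hp2]
  · intro j hj d
    exact (Prime.inner_alternative hP hp2 hM d.2.1 j).2 hj
  · intro j hj
    refine ⟨fun h => Prime.not_dvd_degree hM hp2 hx hj (by exact_mod_cast h), ?_⟩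
    obtain ⟨a, ha⟩ := sum_Ak hP hp2 j
    refine ⟨charDegree (j : G → ℂ), a, ?_, ?_⟩
    · push_cast
      rw [← ha]
      exact Finset.sum_congr rfl fun d _ => (Prime.inner_alternative hP hp2 hM d.2.1 j).1 hj
    · simp
  · intro d y hy
    exact Princ.Th_regular d.2.1 hy
  · intro S hS
    exact Count2.card_le' hM hx hp2 e he' S hS

/-- The values of a non-exceptional character on `P`. -/
theorem value_of_inner_eq [Fintype P] [Fintype (DD P p)] (hP : Nat.card P = p)
    (hp2 : ¬ p ^ 2 ∣ Nat.card G) (f : P → ℂ) (c : ℂ)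
    (hf : ∀ d : DD P p, (p : ℂ)⁻¹ * ∑ u : P, (((d.1 ⟨u, le_centralizer hP u.2⟩ : ℂˣ) : ℂ) - 1) * f u = c)
    (x : P) (hx : x ≠ 1) : f x = - c := by
  classical
  have hp0 : (p : ℂ) ≠ 0 := by
    exact_mod_cast hp.out.ne_zero
  -- the evaluation at the inverse of `x`
  let ev : DD P p → ℂ := fun d => ((d.1 ⟨(x⁻¹ : P), le_centralizer hP (x⁻¹ : P).2⟩ : ℂˣ) : ℂ)
  have hcardD : (Fintype.card (DD P p) : ℂ) = (p : ℂ) - 1 := by
    rw [← Nat.card_eq_fintype_card, card_DD hP hp2, Nat.cast_sub hp.out.one_lt.le]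
    simp
  have hsum1 : ∀ u : P, ∑ d : DD P p, ((d.1 ⟨u, le_centralizer hP u.2⟩ : ℂˣ) : ℂ) =
      (if u = 1 then (p : ℂ) else 0) - 1 := by
    intro u
    have h1 := sum_DD hP hp2 u
    rw [Finset.sum_sub_distrib, Finset.sum_const, Finset.card_univ, nsmul_eq_mul, mul_one, hcardD] at h1
    by_cases hu : u = 1
    · rw [if_pos hu] at h1 ⊢
      linear_combination h1
    · rw [if_neg hu] at h1 ⊢
      linear_combination h1
  have hx' : x⁻¹ ≠ 1 := fun h => hx (inv_eq_one.mp h)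
  have hevsum : ∑ d, ev d = -1 := by
    have := hsum1 x⁻¹
    rw [if_neg hx', zero_sub] at this
    exact this
  have hkey : ∀ u : P, ∑ d : DD P p, (((d.1 ⟨u, le_centralizer hP u.2⟩ : ℂˣ) : ℂ) - 1) * ev d =
      if u = x then (p : ℂ) else 0 := by
    intro u
    have h1 : ∀ d : DD P p, (((d.1 ⟨u, le_centralizer hP u.2⟩ : ℂˣ) : ℂ) - 1) * ev d =
        ((d.1 ⟨((u * x⁻¹ : P) : G), le_centralizer hP (u * x⁻¹ : P).2⟩ : ℂˣ) : ℂ) - ev d := by
      intro d
      have h2 : (⟨((u * x⁻¹ : P) : G), le_centralizer hP (u * x⁻¹ : P).2⟩ : Cn P) =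
          ⟨(u : G), le_centralizer hP u.2⟩ * ⟨((x⁻¹ : P) : G), le_centralizer hP (x⁻¹ : P).2⟩ := rfl
      rw [h2, map_mul, Units.val_mul]
      show _ = _ - _
      ring
    simp only [h1]
    rw [Finset.sum_sub_distrib, hevsum, hsum1 (u * x⁻¹)]
    by_cases hu : u = x
    · rw [if_pos hu, if_pos (by rw [hu, mul_inv_cancel])]
      ring
    · rw [if_neg hu, if_neg (fun h => hu (mul_inv_eq_one.mp h))]
      ring
  have h1 : ∑ d : DD P p, ((p : ℂ)⁻¹ * ∑ u : P,
      (((d.1 ⟨u, le_centralizer hP u.2⟩ : ℂˣ) : ℂ) - 1) * f u) * ev d = f x := by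
    simp only [Finset.mul_sum, Finset.sum_mul]
    rw [Finset.sum_comm]
    have h2 : ∀ u : P, ∑ d : DD P p, (p : ℂ)⁻¹ * ((((d.1 ⟨u, le_centralizer hP u.2⟩ : ℂˣ) : ℂ) - 1) * f u) * ev d =
        (p : ℂ)⁻¹ * f u * ∑ d : DD P p, (((d.1 ⟨u, le_centralizer hP u.2⟩ : ℂˣ) : ℂ) - 1) * ev d := by
      intro u
      rw [Finset.mul_sum]
      refine Finset.sum_congr rfl fun d _ => ?_
      ring
    simp only [h2, hkey]
    rw [Finset.sum_eq_single x]
    · rw [if_pos rfl]
      field_simp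
    · intro u _ hu
      rw [if_neg hu, mul_zero]
    · intro h
      exact absurd (Finset.mem_univ _) h
  simp only [hf] at h1
  rw [← Finset.mul_sum, hevsum] at h1
  rw [← h1]
  ring

end Cfsg.Agent.Lib.ModRep.Princ2
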