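import Cfsg.Agent.Lib.ExcP.Core

/-!
# Structure of exceptional families, with explicit data

The same as `Cfsg.Agent.Lib.ExcP.Core.core`, except that the conclusion names the exceptional characters.
-/

set_option autoImplicit false

namespace Cfsg.Agent.Lib.ModRep.Struct

open Cfsg Module
open Cfsg.Agent.Lib.Char.Basic Cfsg.Agent.Lib.Char.Ortho Cfsg.Agent.Lib.Char.Complete
open Cfsg.Agent.Lib.Char.Degree Cfsg.Agent.Lib.Char.GenLattice
open Cfsg.Agent.Lib.CharX.Isometry Cfsg.Agent.Lib.CharX.Fixed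
open Cfsg.Agent.Lib.ExcP.Core
open scoped ComplexConjugate

universe u

variable {G : Type u} [Group G] [Fintype G]

/-- Structure of exceptional families. -/
theorem core' {D : Type*} [Fintype D] (r : Setoid D) (Θ : D → G → ℂ) (e p : ℕ) (hp : 2 ≤ p)
    (hgen : ∀ d, IsGeneralizedCharacter G (Θ d)) (hone : ∀ d, Θ d 1 = 0)
    (hgram1 : ∀ a b, r a b → classInner (Θ a) (Θ b) = (e : ℂ) + 1)
    (hgram0 : ∀ a b, ¬ r a b → classInner (Θ a) (Θ b) = (e : ℂ))
    (hprin : ∀ a, classInner (Θ a) (fun _ : G => (1 : ℂ)) = -1)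
    (hclass : ∀ b : D, Nat.card {a : D // r a b} = e) (hcard : Fintype.card D = p - 1)
    (he : e < p - 1)
    (Hz : ∀ j : IrrCharacter G, (∀ d, classInner (Θ d) (j : G → ℂ) = 0) ∨
      ∃ a : ℤ, ∑ d, classInner (Θ d) (j : G → ℂ) = (charDegree (j : G → ℂ) : ℂ) - (p : ℂ) * (a : ℂ))
    [Fintype (IrrCharacter G)] :
    ∃ (εz b : ℤ) (t D₀ : ℕ) (z : IrrCharacter G → ℤ) (μ : Fin t → IrrCharacter G)
      (A : Fin t → G → ℂ), (εz = 1 ∨ εz = -1) ∧ t * e = p - 1 ∧ 2 ≤ t ∧
      (∑ j, z j ^ 2) + 2 * εz * b + t * b ^ 2 = e ∧ z (oneIrr G) = -1 ∧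
      (∀ j, z j ≠ 0 → (p : ℤ) ∣ (charDegree (j : G → ℂ) : ℤ) + z j) ∧
      (p : ℤ) ∣ (D₀ : ℤ) + b - e * εz ∧
      Function.Injective μ ∧ (∀ i, z (μ i) = 0) ∧ (∀ i, charDegree (μ i : G → ℂ) = D₀) ∧
      (∀ d, ∃ i, Θ d = A i) ∧ (∀ i, ∃ d, Θ d = A i) ∧
      (∀ i g, A i g = (∑ j, (z j : ℂ) * (j : G → ℂ) g) + (b : ℂ) * (∑ k, (μ k : G → ℂ) g) +
        (εz : ℂ) * (μ i : G → ℂ) g) ∧
      (∀ i (j : IrrCharacter G), (∀ k, μ k ≠ j) → classInner (A i) (j : G → ℂ) = (z j : ℂ)) ∧
      (∀ i k, classInner (A i) (μ k : G → ℂ) = ((b + εz * (if i = k then 1 else 0) : ℤ) : ℂ)) := by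
  classical
  -- The set of classes.
  let Ω := Quotient r
  let out : Ω → D := Quotient.out
  have hrout : ∀ d : D, r d (out ⟦d⟧) := fun d => r.symm (Quotient.mk_out (s := r) d)
  have houtr : ∀ ω ω' : Ω, r (out ω) (out ω') ↔ ω = ω' := by
    intro ω ω'
    constructor
    · intro h
      have h1 : (⟦out ω⟧ : Quotient r) = ⟦out ω'⟧ := Quotient.sound h
      rwa [Quotient.out_eq, Quotient.out_eq] at h1
    · rintro rfl
      exact r.refl _
  -- Invariance
  have hinv : ∀ a b, r a b → Θ a = Θ b := by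
    intro a b hab
    have h0 : classInner (Θ a - Θ b) (Θ a - Θ b) = 0 := by
      rw [classInner_sub_left, classInner_sub_right, classInner_sub_right, hgram1 _ _ (r.refl a),
        hgram1 _ _ hab, hgram1 _ _ (r.symm hab), hgram1 _ _ (r.refl b)]
      ring
    rw [classInner_self_eq_zero_iff] at h0
    exact sub_eq_zero.mp h0
  -- Counting classes
  let t := Fintype.card Ω
  have hte : t * e = p - 1 := by
    rw [← hcard]
    have h1 : Fintype.card D = ∑ ω : Ω, Fintype.card {a : D // (⟦a⟧ : Ω) = ω} := by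
      rw [← Fintype.card_sigma]
      exact Fintype.card_congr (Equiv.sigmaFiberEquiv _).symm
    rw [h1]
    have h2 : ∀ ω : Ω, Fintype.card {a : D // (⟦a⟧ : Ω) = ω} = e := by
      intro ω
      rw [← hclass (out ω), Nat.card_eq_fintype_card]
      apply Fintype.card_congr
      apply Equiv.subtypeEquivRight
      intro a
      constructor
      · rintro rfl
        exact hrout a
      · intro h
        have h3 : (⟦a⟧ : Quotient r) = ⟦out ω⟧ := Quotient.sound h
        rw [Quotient.out_eq] at h3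
        exact h3
    simp only [h2, Finset.sum_const, Finset.card_univ, smul_eq_mul]
    rfl
  have ht2 : 2 ≤ t := by
    by_contra hcon
    have h1 : t ≤ 1 := by omega
    have h2 : t * e ≤ 1 * e := Nat.mul_le_mul_right e h1
    omega
  -- The isometry lemma
  let eqv : Ω ≃ Fin t := Fintype.equivFin Ω
  let A : Fin t → G → ℂ := fun i => Θ (out (eqv.symm i))
  have hAgram1 : ∀ i, classInner (A i) (A i) = (e : ℂ) + 1 := fun i => hgram1 _ _ (r.refl _)
  have hAgram0 : ∀ i j, i ≠ j → classInner (A i) (A j) = (e : ℂ) := by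
    intro i j hij
    apply hgram0
    intro h
    exact hij (eqv.symm.injective ((houtr _ _).mp h))
  let i₀ : Fin t := ⟨0, by omega⟩
  let i₁ : Fin t := ⟨1, by omega⟩
  have hi01 : i₀ ≠ i₁ := by
    intro h
    have := congrArg Fin.val h
    simp [i₀, i₁] at this
  obtain ⟨ε, hε, μ, hμ, hμinj, hτ⟩ := isometry_lemma t i₀ (fun i => A i - A i₀) (sub_self _)
    (fun i => isGenChar_sub (hgen _) (hgen _))
    (fun i => by
      show Θ _ 1 - Θ _ 1 = 0
      rw [hone, hone, sub_zero])
    (fun i j hi hj => by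
      show classInner (A i - A i₀) (A j - A i₀) = _
      rw [classInner_sub_left, classInner_sub_right, classInner_sub_right, hAgram0 i i₀ hi,
        hAgram0 i₀ j hj.symm, hAgram1 i₀]
      by_cases hij : i = j
      · subst hij
        rw [hAgram1 i, if_pos rfl]
        ring
      · rw [hAgram0 i j hij, if_neg hij]
        ring)
  -- integer sign
  obtain ⟨εz, hεz, hεzc⟩ : ∃ εz : ℤ, (εz = 1 ∨ εz = -1) ∧ (εz : ℂ) = ε := by
    rcases hε with h | h
    · exact ⟨1, Or.inl rfl, by rw [h]; simp⟩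
    · exact ⟨-1, Or.inr rfl, by rw [h]; simp⟩
  have hεne : εz ≠ 0 := by rcases hεz with h | h <;> rw [h] <;> norm_num
  have hεsq : εz * εz = 1 := by rcases hεz with h | h <;> rw [h] <;> norm_num
  let μ' : Fin t → IrrCharacter G := fun i => ⟨μ i, hμ i⟩
  have hμ'inj : Function.Injective μ' := fun i j h => hμinj (congrArg Subtype.val h)
  -- Γ
  let Γ : G → ℂ := A i₀ - ε • μ i₀
  have hAΓ : ∀ i, A i = Γ + ε • μ i := by
    intro i
    have h2 : A i - A i₀ = ε • (μ i - μ i₀) := hτ i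
    rw [smul_sub] at h2
    have h3 : A i = (A i - A i₀) + A i₀ := by abel
    rw [h3, h2]
    show ε • μ i - ε • μ i₀ + A i₀ = A i₀ - ε • μ i₀ + ε • μ i
    abel
  have hΓgen : IsGeneralizedCharacter G Γ := by
    apply isGenChar_sub (hgen _)
    rw [← hεzc, Int.cast_smul_eq_zsmul]
    exact isGenChar_zsmul (isGenChar_of_isCharacter (isCharacter_of_isIrrCharacter (hμ i₀))) εz
  obtain ⟨zΓ, hzΓ⟩ := Cfsg.Agent.Lib.CharX.Isometry.exists_int_combination hΓgen
  have hΓco : ∀ j : IrrCharacter G, classInner Γ (j : G → ℂ) = (zΓ j : ℂ) := by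
    intro j
    rw [hzΓ]
    exact classInner_of_int_combination zΓ j
  have hΓnorm : classInner Γ Γ = ((∑ j, zΓ j ^ 2 : ℤ) : ℂ) := by
    rw [hzΓ]
    exact classInner_self_of_int_combination zΓ
  have hμco : ∀ (i : Fin t) (j : IrrCharacter G), classInner (μ i) (j : G → ℂ) =
      ((if μ' i = j then 1 else 0 : ℤ) : ℂ) := by
    intro i j
    rw [classInner_irr (hμ i) j.2]
    by_cases h : μ' i = j
    · rw [if_pos h, if_pos (congrArg Subtype.val h)]
      simp
    · rw [if_neg h, if_neg (fun h' => h (Subtype.ext h'))]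
      simp
  have hAco : ∀ (i : Fin t) (j : IrrCharacter G), classInner (A i) (j : G → ℂ) =
      ((zΓ j + εz * (if μ' i = j then 1 else 0) : ℤ) : ℂ) := by
    intro i j
    rw [hAΓ i, classInner_add_left, classInner_smul_left, hΓco, hμco, ← hεzc]
    push_cast
    rfl
  -- The norm of `A i`.
  have hSb : ∀ i, (∑ j, zΓ j ^ 2) + 2 * εz * zΓ (μ' i) = (e : ℤ) := by
    intro i
    have h1 := hAgram1 i
    rw [hAΓ i, classInner_add_left, classInner_add_right, classInner_add_right, classInner_smul_left,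
      classInner_smul_right, classInner_smul_left, classInner_smul_right, hΓnorm,
      classInner_self_of_isIrr (hμ i), hΓco (μ' i)] at h1
    have h2 : classInner (μ i) Γ = (zΓ (μ' i) : ℂ) := by
      rw [← classInner_conj, show Γ = Γ from rfl]
      have h3 := hΓco (μ' i)
      have h4 : classInner Γ (μ i) = (zΓ (μ' i) : ℂ) := h3
      rw [h4]
      simp
    rw [h2, ← hεzc, map_intCast] at h1
    have h5 : (((∑ j, zΓ j ^ 2) + 2 * εz * zΓ (μ' i) + εz * εz : ℤ) : ℂ) = ((e + 1 : ℤ) : ℂ) := by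
      push_cast
      push_cast at h1
      rw [← h1]
      ring
    have h6 : (∑ j, zΓ j ^ 2) + 2 * εz * zΓ (μ' i) + εz * εz = (e : ℤ) + 1 := by exact_mod_cast h5
    rw [hεsq] at h6
    omega
  set b := zΓ (μ' i₀) with hb
  have hbi : ∀ i, zΓ (μ' i) = b := by
    intro i
    have h1 := hSb i
    have h2 := hSb i₀
    have h3 : 2 * εz * (zΓ (μ' i) - b) = 0 := by
      rw [← hb] at h2
      linarith
    have h4 : 2 * εz ≠ 0 := mul_ne_zero (by norm_num) hεne
    have h5 := (mul_eq_zero.mp h3).resolve_left h4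
    omega
  let R : Finset (IrrCharacter G) := Finset.univ.image μ'
  have hμR : ∀ i, μ' i ∈ R := fun i => Finset.mem_image_of_mem _ (Finset.mem_univ _)
  let z' : IrrCharacter G → ℤ := fun j => if j ∈ R then 0 else zΓ j
  have hzΓb : ∀ j, j ∈ R → zΓ j = b := by
    intro j hj
    obtain ⟨i, -, rfl⟩ := Finset.mem_image.mp hj
    exact hbi i
  have hsplit : ∀ g : IrrCharacter G → ℤ, ∑ j, zΓ j * g j = (∑ i, b * g (μ' i)) + ∑ j, z' j * g j := by
    intro g
    have h1 : ∀ j, zΓ j * g j = (if j ∈ R then b * g j else 0) + z' j * g j := by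
      intro j
      by_cases hj : j ∈ R
      · simp [z', hj, hzΓb j hj]
      · simp [z', hj]
    simp only [h1]
    rw [Finset.sum_add_distrib, Finset.sum_ite_mem, Finset.univ_inter,
      Finset.sum_image (fun a _ c _ h => hμ'inj h)]
  -- The principal character is not in `R`.
  have hprinA : ∀ i, zΓ (oneIrr G) + εz * (if μ' i = oneIrr G then 1 else 0) = -1 := by
    intro i
    have h1 := hAco i (oneIrr G)
    have h2 : classInner (A i) ((oneIrr G : IrrCharacter G) : G → ℂ) = -1 := hprin _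
    rw [h2] at h1
    have h3 : ((-1 : ℤ) : ℂ) = ((zΓ (oneIrr G) + εz * (if μ' i = oneIrr G then 1 else 0) : ℤ) : ℂ) := by
      rw [← h1]
      simp
    exact_mod_cast h3.symm
  have honeR : oneIrr G ∉ R := by
    intro hmem
    obtain ⟨k, -, hk⟩ := Finset.mem_image.mp hmem
    obtain ⟨k', hk'⟩ : ∃ k', k' ≠ k := by
      by_cases h : k = i₀
      · exact ⟨i₁, fun h' => hi01 (h.symm.trans h'.symm)⟩
      · exact ⟨i₀, fun h' => h h'.symm⟩
    have h1 := hprinA k
    have h2 := hprinA k'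
    rw [if_pos hk] at h1
    rw [if_neg (fun h => hk' (hμ'inj (h.trans hk.symm)))] at h2
    apply hεne
    linarith
  have hz'one : z' (oneIrr G) = -1 := by
    have h1 := hprinA i₀
    have h9 : ¬ μ' i₀ = oneIrr G := fun h => honeR (by rw [← h]; exact hμR i₀)
    rw [if_neg h9] at h1
    simp only [z', if_neg honeR]
    linarith
  -- Degrees.
  let dg : IrrCharacter G → ℤ := fun j => (charDegree (j : G → ℂ) : ℤ)
  have hevalΓ : ∀ i, (∑ j, zΓ j * dg j) + εz * dg (μ' i) = 0 := by
    intro i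
    have h1 : A i 1 = 0 := hone _
    rw [hAΓ i, Pi.add_apply, Pi.smul_apply, hzΓ, int_combination_one, smul_eq_mul, ← hεzc,
      ← charDegree_natCast (isCharacter_of_isIrrCharacter (hμ i))] at h1
    have h2 : (((∑ j, zΓ j * dg j) + εz * dg (μ' i) : ℤ) : ℂ) = ((0 : ℤ) : ℂ) := by
      push_cast
      push_cast at h1
      exact h1
    exact_mod_cast h2
  set D₀ := charDegree (μ i₀) with hD₀
  have hdgμ : ∀ i, dg (μ' i) = D₀ := by
    intro i
    have h1 := hevalΓ i
    have h2 := hevalΓ i₀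
    have h3 : εz * (dg (μ' i) - dg (μ' i₀)) = 0 := by linarith
    have h4 := (mul_eq_zero.mp h3).resolve_left hεne
    have h5 : dg (μ' i₀) = D₀ := rfl
    omega
  have hdgμ' : ∀ i, charDegree ((μ' i : IrrCharacter G) : G → ℂ) = D₀ := by
    intro i
    have h1 : (charDegree ((μ' i : IrrCharacter G) : G → ℂ) : ℤ) = (D₀ : ℤ) := hdgμ i
    exact_mod_cast h1
  have hΘA : ∀ d, Θ d = A (eqv ⟦d⟧) := by
    intro d
    have h1 := hinv _ _ (hrout d)
    rw [h1]
    show Θ (out ⟦d⟧) = Θ (out (eqv.symm (eqv ⟦d⟧)))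
    rw [Equiv.symm_apply_apply]
  have hsplitC : ∀ g : IrrCharacter G → ℂ, ∑ j, (zΓ j : ℂ) * g j =
      (∑ i, (b : ℂ) * g (μ' i)) + ∑ j, (z' j : ℂ) * g j := by
    intro g
    have h1 : ∀ j, (zΓ j : ℂ) * g j = (if j ∈ R then (b : ℂ) * g j else 0) + (z' j : ℂ) * g j := by
      intro j
      by_cases hj : j ∈ R
      · simp [z', hj, hzΓb j hj]
      · simp [z', hj]
    simp only [h1]
    rw [Finset.sum_add_distrib, Finset.sum_ite_mem, Finset.univ_inter,
      Finset.sum_image (fun a _ c _ h => hμ'inj h)]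
  have hAfull : ∀ i g, A i g = (∑ j, (z' j : ℂ) * (j : G → ℂ) g) +
      (b : ℂ) * (∑ k, ((μ' k : IrrCharacter G) : G → ℂ) g) + (εz : ℂ) * ((μ' i : IrrCharacter G) : G → ℂ) g := by
    intro i g
    rw [hAΓ i, Pi.add_apply, Pi.smul_apply, smul_eq_mul, ← hεzc]
    congr 1
    have h1 : Γ g = ∑ j, (zΓ j : ℂ) * (j : G → ℂ) g := by
      rw [hzΓ, Finset.sum_apply]
      refine Finset.sum_congr rfl fun j _ => ?_
      rw [Pi.smul_apply, zsmul_eq_mul]
    rw [h1, hsplitC, Finset.mul_sum, add_comm]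
  refine ⟨εz, b, t, D₀, z', μ', A, hεz, hte, ht2, ?_, hz'one, ?_, ?_, hμ'inj, ?_, hdgμ', ?_, ?_, hAfull, ?_, ?_⟩
  · -- the norm
    have h1 := hsplit zΓ
    have h2 : ∑ i, b * zΓ (μ' i) = (t : ℤ) * b ^ 2 := by
      simp only [hbi]
      rw [Finset.sum_const, Finset.card_univ, Fintype.card_fin, nsmul_eq_mul]
      ring
    have h3 : ∑ j, z' j * zΓ j = ∑ j, z' j ^ 2 := by
      refine Finset.sum_congr rfl fun j _ => ?_
      by_cases hj : j ∈ R
      · simp [z', hj]
      · simp only [z', if_neg hj]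
        ring
    have h4 : ∑ j, zΓ j * zΓ j = ∑ j, zΓ j ^ 2 :=
      Finset.sum_congr rfl fun j _ => (pow_two _).symm
    rw [h4, h2, h3] at h1
    have h5 := hSb i₀
    rw [← hb, h1] at h5
    linarith
  · -- congruences
    intro j hj
    have hjR : j ∉ R := by
      intro h
      exact hj (by simp [z', h])
    have hz'j : z' j = zΓ j := by simp [z', hjR]
    have hconst : ∀ d, classInner (Θ d) (j : G → ℂ) = (zΓ j : ℂ) := by
      intro d
      rw [hΘA d, hAco]
      have h9 : ¬ μ' (eqv ⟦d⟧) = j := fun h => hjR (by rw [← h]; exact hμR _)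
      rw [if_neg h9]
      simp
    rcases Hz j with h1 | ⟨a, h1⟩
    · exfalso
      apply hj
      rw [hz'j]
      have h2 := hconst (out (eqv.symm i₀))
      rw [h1] at h2
      exact_mod_cast h2.symm
    · have h2 : ∑ d, classInner (Θ d) (j : G → ℂ) = ((p - 1 : ℕ) : ℂ) * (zΓ j : ℂ) := by
        simp only [hconst]
        rw [Finset.sum_const, Finset.card_univ, hcard, nsmul_eq_mul]
      rw [h2] at h1
      have h3 : (((p - 1 : ℕ) : ℤ) * zΓ j : ℤ) = (charDegree (j : G → ℂ) : ℤ) - (p : ℤ) * a := by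
        exact_mod_cast h1
      have h4 : ((p - 1 : ℕ) : ℤ) = (p : ℤ) - 1 := by
        rw [Nat.cast_sub (by omega)]
        simp
      rw [h4] at h3
      rw [hz'j]
      refine ⟨zΓ j + a, ?_⟩
      linarith
  · -- the exceptional degree
    have hco : ∀ d, classInner (Θ d) ((μ' i₀ : IrrCharacter G) : G → ℂ) =
        ((b + εz * (if eqv ⟦d⟧ = i₀ then 1 else 0) : ℤ) : ℂ) := by
      intro d
      rw [hΘA d, hAco]
      by_cases h : eqv ⟦d⟧ = i₀
      · rw [if_pos h, if_pos (congrArg μ' h)]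
      · rw [if_neg h, if_neg (fun h' => h (hμ'inj h'))]
    have hcount : ∑ d : D, (if eqv ⟦d⟧ = i₀ then (1 : ℤ) else 0) = e := by
      rw [Finset.sum_boole]
      have h1 := hclass (out (eqv.symm i₀))
      rw [Nat.card_eq_fintype_card, Fintype.card_subtype] at h1
      rw [← h1]
      congr 2
      apply Finset.filter_congr
      intro d _
      constructor
      · intro h
        have h2 := hrout d
        have h3 : (⟦d⟧ : Ω) = eqv.symm i₀ := by
          rw [← h]
          simp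
        rwa [h3] at h2
      · intro h
        have h3 : (⟦d⟧ : Quotient r) = ⟦out (eqv.symm i₀)⟧ := Quotient.sound h
        rw [Quotient.out_eq] at h3
        rw [show (⟦d⟧ : Ω) = eqv.symm i₀ from h3]
        simp
    rcases Hz (μ' i₀) with h1 | ⟨a, h1⟩
    · exfalso
      have h2 := hco (out (eqv.symm i₀))
      have h3 := hco (out (eqv.symm i₁))
      rw [h1] at h2 h3
      have h4 : eqv ⟦out (eqv.symm i₀)⟧ = i₀ := by
        rw [Quotient.out_eq]
        simp
      have h5 : eqv ⟦out (eqv.symm i₁)⟧ = i₁ := by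
        rw [Quotient.out_eq]
        simp
      rw [if_pos h4] at h2
      rw [h5, if_neg (Ne.symm hi01)] at h3
      have h6 : b + εz * 1 = 0 := by exact_mod_cast h2.symm
      have h7 : b + εz * 0 = 0 := by exact_mod_cast h3.symm
      apply hεne
      linarith
    · have h2 : ∑ d, classInner (Θ d) ((μ' i₀ : IrrCharacter G) : G → ℂ) =
          ((((p - 1 : ℕ) : ℤ) * b + εz * e : ℤ) : ℂ) := by
        simp only [hco]
        rw [← Int.cast_sum, Finset.sum_add_distrib, ← Finset.mul_sum, hcount, Finset.sum_const,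
          Finset.card_univ, hcard]
        simp
      rw [h2] at h1
      have h0 : (charDegree ((μ' i₀ : IrrCharacter G) : G → ℂ)) = D₀ := rfl
      rw [h0] at h1
      have h3 : (((p - 1 : ℕ) : ℤ) * b + εz * e : ℤ) = (D₀ : ℤ) - (p : ℤ) * a := by
        exact_mod_cast h1
      have h4 : ((p - 1 : ℕ) : ℤ) = (p : ℤ) - 1 := by
        rw [Nat.cast_sub (by omega)]
        simp
      rw [h4] at h3
      refine ⟨b + a, ?_⟩
      linarith
  · intro i
    simp [z', hμR i]
  · intro d
    exact ⟨_, hΘA d⟩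
  · intro i
    exact ⟨out (eqv.symm i), rfl⟩
  · intro i j hj
    have hjR : j ∉ R := by
      intro h
      obtain ⟨k, -, hk⟩ := Finset.mem_image.mp h
      exact hj k hk
    rw [hAco, if_neg (hj i)]
    simp [z', hjR]
  · intro i k
    rw [hAco, hbi k]
    by_cases h : i = k
    · rw [if_pos h, if_pos (congrArg μ' h)]
    · rw [if_neg h, if_neg (fun h' => h (hμ'inj h'))]

end Cfsg.Agent.Lib.ModRep.Struct
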